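import Mathlib
import Cfsg.Agent.H2.UniqueOrderP

/-!
# Odd-order automorphisms of 2-groups with a unique involution (towards S2934)
-/

set_option autoImplicit false

namespace Cfsg.Agent.H2.NCA

open QuaternionGroup

/-- an automorphism of odd order of a finite cyclic 2-group is trivial -/
theorem eq_one_of_odd_cyclic {X : Type*} [Group X] [Finite X] [IsCyclic X] (hX : IsPGroup 2 X)
    (β : MulAut X) (o : ℕ) (ho : Odd o) (hβ : β ^ o = 1) : β = 1 := by
  have h1 : Nat.card (MulAut X) = Nat.totient (Nat.card X) := IsCyclic.card_mulAut X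
  obtain ⟨m, hm⟩ := IsPGroup.iff_card.mp hX
  have h2 : ∃ k : ℕ, Nat.card (MulAut X) = 2 ^ k := by
    rw [h1, hm]
    rcases m with _ | m
    · exact ⟨0, by simp⟩
    · exact ⟨m, by rw [Nat.totient_prime_pow_succ Nat.prime_two]; simp⟩
  obtain ⟨k, hk⟩ := h2
  have : Finite (MulAut X) := Nat.finite_of_card_ne_zero (by rw [hk]; positivity)
  have h3 : β ^ (2 ^ k) = 1 := by rw [← hk]; exact pow_card_eq_one'
  have h4 : β ^ (Nat.gcd o (2 ^ k)) = 1 := pow_gcd_eq_one.2 ⟨hβ, h3⟩
  have h5 : Nat.gcd o (2 ^ k) = 1 := by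
    apply Nat.Coprime.pow_right
    exact (Nat.coprime_comm.mp ((Nat.Prime.coprime_iff_not_dvd Nat.prime_two).2
      (fun h => (Nat.not_even_iff_odd.2 ho) (even_iff_two_dvd.2 h))))
  rw [h5, pow_one] at h4
  exact h4

theorem quat_a_pow {N : ℕ} (k : ZMod (2 * N)) (i : ℕ) :
    (a k : QuaternionGroup N) ^ i = a ((i : ZMod (2 * N)) * k) := by
  induction i with
  | zero => simp
  | succ i ih => rw [pow_succ, ih, a_mul_a]; congr 1; push_cast; ring

theorem coprime_two_pow_of_odd (o : ℕ) (ho : Odd o) (n : ℕ) : Nat.Coprime o (2 ^ n) := by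
  apply Nat.Coprime.pow_right
  exact (Nat.coprime_comm.mp ((Nat.Prime.coprime_iff_not_dvd Nat.prime_two).2
    (fun h => (Nat.not_even_iff_odd.2 ho) (even_iff_two_dvd.2 h))))

/-- an automorphism of odd order of a generalized quaternion group of order `≠ 8` is trivial -/
theorem eq_one_of_odd_quat (N : ℕ) [NeZero N] (n : ℕ) (hN : N = 2 ^ n) (hN2 : N ≠ 2)
    (β : MulAut (QuaternionGroup N)) (o : ℕ) (ho : Odd o) (hβ : β ^ o = 1) : β = 1 := by
  have hcop : Nat.Coprime o (2 * N) := by
    have := coprime_two_pow_of_odd o ho (n + 1)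
    rwa [pow_succ', ← hN] at this
  -- Step 1
  obtain ⟨k, hk⟩ : ∃ k, β (a 1) = a k := by
    cases h : β (a 1) with
    | a k => exact ⟨k, rfl⟩
    | xa j =>
      exfalso
      have h1 : orderOf (β (a 1)) = orderOf (a 1 : QuaternionGroup N) := MulEquiv.orderOf_eq β _
      rw [h, orderOf_xa, orderOf_a_one] at h1
      omega
  -- Step 2
  have h2 : ∀ j : ZMod (2 * N), β (a j) = a (j * k) := by
    intro j
    have hj : (a j : QuaternionGroup N) = (a 1) ^ j.val := by
      rw [a_one_pow]; simp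
    rw [hj, map_pow, hk, quat_a_pow]; simp
  -- Step 3
  have h3 : ∀ m : ℕ, (β ^ m) (a 1) = a (k ^ m) := by
    intro m
    induction m with
    | zero => simp
    | succ m ih =>
      rw [pow_succ', MulAut.mul_apply, ih, h2]; congr 1; ring
  have h4 : k ^ o = 1 := by
    have := h3 o
    rw [hβ, MulAut.one_apply] at this
    exact (QuaternionGroup.a.injEq _ _ ▸ this.symm :)
  -- Step 5
  have h5 : k = 1 := by
    have hne : NeZero (2 * N) := ⟨by have := NeZero.ne N; omega⟩
    let u : (ZMod (2 * N))ˣ := Units.ofPowEqOne k o h4 (Nat.pos_of_ne_zero (by rintro rfl; simp at ho)).ne'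
    have hu : (u : ZMod (2 * N)) = k := rfl
    have hu1 : u ^ o = 1 := by
      apply Units.ext; push_cast; rw [hu, h4]
    have hu2 : u ^ (Nat.totient (2 * N)) = 1 := ZMod.pow_totient u
    have h2N : 2 * N = 2 ^ (n + 1) := by rw [hN, pow_succ']
    have htot : Nat.totient (2 * N) = 2 ^ n * (2 - 1) := by
      rw [h2N, Nat.totient_prime_pow_succ Nat.prime_two]
    rw [htot] at hu2
    have hu3 : u ^ (Nat.gcd o (2 ^ n * (2 - 1))) = 1 := pow_gcd_eq_one.2 ⟨hu1, hu2⟩
    have hg : Nat.gcd o (2 ^ n * (2 - 1)) = 1 := by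
      simpa using coprime_two_pow_of_odd o ho n
    rw [hg, pow_one] at hu3
    rw [← hu, hu3]; rfl
  have h6 : ∀ j : ZMod (2 * N), β (a j) = a j := by
    intro j; rw [h2, h5, mul_one]
  -- Step 7
  obtain ⟨j, hj⟩ : ∃ j, β (xa 0) = xa j := by
    cases h : β (xa 0) with
    | xa j => exact ⟨j, rfl⟩
    | a i =>
      exfalso
      have := β.injective (h.trans (h6 i).symm)
      cases this
  have h8 : ∀ m : ℕ, (β ^ m) (xa 0) = xa ((m : ZMod (2 * N)) * j) := by
    intro m
    induction m with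
    | zero => simp
    | succ m ih =>
      rw [pow_succ', MulAut.mul_apply, ih]
      have : (xa ((m : ZMod (2 * N)) * j) : QuaternionGroup N) = xa 0 * a ((m : ZMod (2 * N)) * j) := by
        rw [xa_mul_a, zero_add]
      rw [this, map_mul, hj, h6, xa_mul_a]; congr 1; push_cast; ring
  have h9 : j = 0 := by
    have := h8 o
    rw [hβ, MulAut.one_apply] at this
    have h' : (o : ZMod (2 * N)) * j = 0 := (QuaternionGroup.xa.injEq _ _ ▸ this.symm :)
    have hu : IsUnit (o : ZMod (2 * N)) := (ZMod.isUnit_iff_coprime o (2 * N)).2 hcop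
    exact (hu.mul_right_eq_zero).1 h'
  ext x
  cases x with
  | a i => rw [h6]; rfl
  | xa i =>
    have : (xa i : QuaternionGroup N) = xa 0 * a i := by rw [xa_mul_a, zero_add]
    rw [this, map_mul, hj, h9, h6]; rfl

/-- **Lemma L**: a finite 2-group with a unique involution admitting a nontrivial automorphism of odd
order is the quaternion group of order 8. -/
theorem lemmaL {X : Type*} [Group X] [Finite X] (hX : IsPGroup 2 X) (z : X) (hz1 : z ≠ 1)
    (hz2 : z * z = 1) (huniq : ∀ x : X, x * x = 1 → x = 1 ∨ x = z)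
    (β : MulAut X) (hβ1 : β ≠ 1) (o : ℕ) (ho : Odd o) (hβ : β ^ o = 1) :
    Nonempty (X ≃* QuaternionGroup 2) := by
  haveI : Fact (Nat.Prime 2) := ⟨Nat.prime_two⟩
  have hoz : orderOf z = 2 := orderOf_eq_prime (by rw [sq]; exact hz2) hz1
  have hsub : ∀ H : Subgroup X, Nat.card H = 2 → H = Subgroup.zpowers z := by
    intro H hH
    have hnt : Nontrivial H := (Finite.one_lt_card_iff_nontrivial).1 (by rw [hH]; norm_num)
    obtain ⟨h, hh⟩ := exists_ne (1 : H)
    have h2 : h ^ 2 = 1 := by rw [← hH]; exact pow_card_eq_one'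
    have h3 : (h : X) * (h : X) = 1 := by
      have := congrArg (fun t : H => (t : X)) h2
      simpa [sq] using this
    have h4 : (h : X) = z := by
      rcases huniq _ h3 with h5 | h5
      · exact absurd (Subtype.ext h5) hh
      · exact h5
    have hle : Subgroup.zpowers z ≤ H := by
      rw [Subgroup.zpowers_le, ← h4]; exact h.2
    refine (Subgroup.eq_of_le_of_card_ge hle ?_).symm
    rw [hH, Nat.card_zpowers, hoz]
  rcases Cfsg.Agent.H2.UOP.main 2 hX (fun H K hH hK => (hsub H hH).trans (hsub K hK).symm) with hc | ⟨-, n, ⟨φ⟩⟩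
  · haveI := hc
    exact absurd (eq_one_of_odd_cyclic hX β o ho hβ) hβ1
  · by_cases hn : 2 ^ n = 2
    · have hn1 : n = 1 := by
        have : 2 ^ n = 2 ^ 1 := by simpa using hn
        exact Nat.pow_right_injective (le_refl 2) this
      subst hn1
      exact ⟨φ⟩
    · exfalso
      apply hβ1
      have h1 : (MulAut.congr φ β) ^ o = 1 := by rw [← map_pow, hβ, map_one]
      have h2 := eq_one_of_odd_quat (2 ^ n) n rfl hn _ o ho h1
      exact (MulAut.congr φ).injective (h2.trans (map_one _).symm)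

end Cfsg.Agent.H2.NCA
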