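import Mathlib
import Cfsg.Agent.H2.NCA.A1

/-!
# Quaternion-type subgroups (towards S2934)
-/

set_option autoImplicit false

namespace Cfsg.Agent.H2.NCA

open QuaternionGroup

set_option maxRecDepth 100000 in
theorem q8_sq : ∀ x : QuaternionGroup 2, x = 1 ∨ x = a 2 ∨ x * x = a 2 := by decide
set_option maxRecDepth 100000 in
theorem q8_inv : ∀ x : QuaternionGroup 2, x * x = 1 → x = 1 ∨ x = a 2 := by decide
set_option maxRecDepth 100000 in
theorem q8_comm : ∀ x y : QuaternionGroup 2, x * y = y * x ∨ x * y = a 2 * (y * x) := by decide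
set_option maxRecDepth 100000 in
theorem q8_anti' : ∀ x y : QuaternionGroup 2, x = 1 ∨ x = a 2 ∨ y = 1 ∨ y = a 2 ∨ y = x ∨
    y = a 2 * x ∨ (x * y = a 2 * (y * x)) := by decide
theorem q8_anti : ∀ x y : QuaternionGroup 2, x ≠ 1 → x ≠ a 2 → y ≠ 1 → y ≠ a 2 → y ≠ x →
    y ≠ a 2 * x → x * y = a 2 * (y * x) := by
  intro x y h1 h2 h3 h4 h5 h6
  rcases q8_anti' x y with h | h | h | h | h | h | h
  · exact absurd h h1
  · exact absurd h h2
  · exact absurd h h3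
  · exact absurd h h4
  · exact absurd h h5
  · exact absurd h h6
  · exact h
set_option maxRecDepth 100000 in
theorem q8_gen : ∀ x y w : QuaternionGroup 2, x ≠ 1 → x ≠ a 2 → y ≠ 1 → y ≠ a 2 → y ≠ x →
    y ≠ a 2 * x →
    (w = 1 ∨ w = a 2 ∨ w = x ∨ w = a 2 * x ∨ w = y ∨ w = a 2 * y ∨ w = x * y ∨
      w = a 2 * (x * y)) := by decide

/-- `X` is a quaternion group of order 8 with central involution `z` (element-level facts) -/
structure Q8T {W : Type*} [Group W] (X : Subgroup W) (z : W) : Prop where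
  sq : ∀ x ∈ X, x = 1 ∨ x = z ∨ x * x = z
  comm : ∀ x ∈ X, ∀ y ∈ X, x * y = y * x ∨ x * y = z * (y * x)
  anti : ∀ x ∈ X, ∀ y ∈ X, x ≠ 1 → x ≠ z → y ≠ 1 → y ≠ z → y ≠ x → y ≠ z * x →
    x * y = z * (y * x)
  gen : ∀ x ∈ X, ∀ y ∈ X, x ≠ 1 → x ≠ z → y ≠ 1 → y ≠ z → y ≠ x → y ≠ z * x → ∀ w ∈ X,
    w = 1 ∨ w = z ∨ w = x ∨ w = z * x ∨ w = y ∨ w = z * y ∨ w = x * y ∨ w = z * (x * y)
  card : Nat.card X = 8

variable {W : Type*} [Group W]

theorem q8t_of_equiv (X : Subgroup W) (z : W) (hzX : z ∈ X) (hz1 : z ≠ 1) (hz2 : z * z = 1)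
    (φ : ↥X ≃* QuaternionGroup 2) : Q8T X z := by
  let f : QuaternionGroup 2 → W := fun q => ((φ.symm q : ↥X) : W)
  have hf1 : f 1 = 1 := by simp [f]
  have hfm : ∀ q r, f (q * r) = f q * f r := by intro q r; simp [f]
  have hfi : Function.Injective f := fun q r h => φ.symm.injective (Subtype.ext h)
  have hfX : ∀ q, f q ∈ X := fun q => (φ.symm q).2
  have hfs : ∀ x ∈ X, ∃ q, f q = x := by
    intro x hx
    exact ⟨φ ⟨x, hx⟩, by simp [f]⟩
  have hfz : f (a 2) = z := by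
    obtain ⟨q, hq⟩ := hfs z hzX
    have h1 : q * q = 1 := by
      apply hfi; rw [hfm, hq, hz2, hf1]
    rcases q8_inv q h1 with h | h
    · exfalso; apply hz1; rw [← hq, h, hf1]
    · rw [← h, hq]
  have hne : ∀ q r, f q ≠ f r → q ≠ r := fun q r h h' => h (h' ▸ rfl)
  refine ⟨?_, ?_, ?_, ?_, ?_⟩
  · intro x hx
    obtain ⟨q, rfl⟩ := hfs x hx
    rcases q8_sq q with h | h | h
    · left; rw [h, hf1]
    · right; left; rw [h, hfz]
    · right; right; rw [← hfm, h, hfz]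
  · intro x hx y hy
    obtain ⟨q, rfl⟩ := hfs x hx
    obtain ⟨r, rfl⟩ := hfs y hy
    rcases q8_comm q r with h | h
    · left; rw [← hfm, ← hfm, h]
    · right; rw [← hfz, ← hfm, ← hfm, ← hfm, h]
  · intro x hx y hy hx1 hxz hy1 hyz hyx hyzx
    obtain ⟨q, rfl⟩ := hfs x hx
    obtain ⟨r, rfl⟩ := hfs y hy
    rw [← hf1] at hx1 hy1
    rw [← hfz] at hxz hyz hyzx
    rw [← hfm] at hyzx
    have := q8_anti q r (hne _ _ hx1) (hne _ _ hxz) (hne _ _ hy1) (hne _ _ hyz) (hne _ _ hyx)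
      (hne _ _ hyzx)
    rw [← hfz, ← hfm, ← hfm, ← hfm, this]
  · intro x hx y hy hx1 hxz hy1 hyz hyx hyzx w hw
    obtain ⟨q, rfl⟩ := hfs x hx
    obtain ⟨r, rfl⟩ := hfs y hy
    obtain ⟨s, rfl⟩ := hfs w hw
    rw [← hf1] at hx1 hy1
    rw [← hfz] at hxz hyz hyzx
    rw [← hfm] at hyzx
    have := q8_gen q r s (hne _ _ hx1) (hne _ _ hxz) (hne _ _ hy1) (hne _ _ hyz) (hne _ _ hyx)
      (hne _ _ hyzx)
    rw [← hf1, ← hfz]
    simp only [← hfm]
    rcases this with h | h | h | h | h | h | h | h <;> rw [h] <;> simp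
  · rw [Nat.card_congr φ.toEquiv, Nat.card_eq_fintype_card, QuaternionGroup.card]

end Cfsg.Agent.H2.NCA
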