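import Mathlib
import Cfsg.Agent.H2.NCA.A2

/-!
# Odd-order automorphisms acting on a quaternion-type subgroup (towards S2934)
-/

set_option autoImplicit false

namespace Cfsg.Agent.H2.NCA

variable {W : Type*} [Group W]

theorem stab_pow (b : MulAut W) (c y : W) (hc : b c = c) (hy : b y = c * y) (m : ℕ) :
    (b ^ m) y = c ^ m * y := by
  induction m with
  | zero => simp
  | succ m ih =>
    rw [pow_succ', MulAut.mul_apply, ih, map_mul, map_pow, hc, hy, pow_succ, mul_assoc]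

theorem eq_one_of_pow_odd_of_pow_four (c : W) (o : ℕ) (ho : Odd o) (h1 : c ^ o = 1)
    (h4 : c ^ 4 = 1) : c = 1 := by
  have h := pow_gcd_eq_one.2 ⟨h1, h4⟩
  have hg : Nat.gcd o 4 = 1 := by
    have := coprime_two_pow_of_odd o ho 2
    simpa using this
  rwa [hg, pow_one] at h

/-- if `b^2` fixes `x` and `b` has odd order then `b` fixes `x` -/
theorem fix_of_sq_fix (b : MulAut W) (o : ℕ) (ho : Odd o) (hbo : b ^ o = 1) (x : W)
    (h : (b ^ 2) x = x) : b x = x := by
  obtain ⟨k, hk⟩ := ho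
  have h1 : ∀ m : ℕ, ((b ^ 2) ^ m) x = x := by
    intro m
    induction m with
    | zero => simp
    | succ m ih => rw [pow_succ', MulAut.mul_apply, ih, h]
  have h2 : b = (b ^ 2) ^ (k + 1) := by
    rw [← pow_mul, show 2 * (k + 1) = o + 1 by omega, pow_succ, hbo, one_mul]
  rw [h2]; exact h1 _

theorem fix_of_coprime_pow (b : MulAut W) (m n : ℕ) (hcop : Nat.Coprime m n) (x : W)
    (hm : (b ^ m) x = x) (hn : (b ^ n) x = x) : b x = x := by
  have h1 : b ^ m ∈ MulAction.stabilizer (MulAut W) x := hm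
  have h2 : b ^ n ∈ MulAction.stabilizer (MulAut W) x := hn
  have h3 : (b ^ m) ^ (Nat.gcdA m n) * (b ^ n) ^ (Nat.gcdB m n) ∈
      MulAction.stabilizer (MulAut W) x :=
    Subgroup.mul_mem _ (Subgroup.zpow_mem _ h1 _) (Subgroup.zpow_mem _ h2 _)
  have h4 : (b ^ m) ^ (Nat.gcdA m n) * (b ^ n) ^ (Nat.gcdB m n) = b := by
    rw [← zpow_natCast, ← zpow_natCast, ← zpow_mul, ← zpow_mul, ← zpow_add,
      ← Nat.gcd_eq_gcd_ab, hcop.gcd_eq_one]
    simp
  rw [h4] at h3
  exact h3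

namespace Q8T

variable {X : Subgroup W} {z : W}

theorem pow_four (h : Q8T X z) (hz2 : z * z = 1) (c : W) (hc : c ∈ X) : c ^ 4 = 1 := by
  rcases h.sq c hc with h1 | h1 | h1
  · rw [h1, one_pow]
  · rw [h1, show (4 : ℕ) = 2 * 2 by norm_num, pow_mul, pow_two z, hz2, one_pow]
  · rw [show (4 : ℕ) = 2 * 2 by norm_num, pow_mul, pow_two c, h1, pow_two, hz2]

/-- (q4) an odd-order automorphism fixing some element outside `{1, z}` fixes `X` pointwise -/
theorem fix_all (h : Q8T X z) (hzX : z ∈ X) (hz2 : z * z = 1) (b : MulAut W)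
    (hbX : ∀ x ∈ X, b x ∈ X) (hbz : b z = z) (o : ℕ) (ho : Odd o) (hbo : b ^ o = 1)
    (x : W) (hx : x ∈ X) (hx1 : x ≠ 1) (hxz : x ≠ z) (hbx : b x = x) : ∀ y ∈ X, b y = y := by
  intro y hy
  have key : ∀ c ∈ X, b c = c → b y = c * y → b y = y := by
    intro c hc hbc hyc
    have h1 := stab_pow b c y hbc hyc o
    rw [hbo, MulAut.one_apply] at h1
    have h2 : c ^ o = 1 := by
      have : c ^ o * y = 1 * y := by rw [← h1, one_mul]
      exact mul_right_cancel this
    have h3 := eq_one_of_pow_odd_of_pow_four c o ho h2 (h.pow_four hz2 c hc)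
    rw [hyc, h3, one_mul]
  have hbzx : b (z * x) = z * x := by rw [map_mul, hbz, hbx]
  by_cases hy1 : y = 1
  · rw [hy1, map_one]
  by_cases hyz : y = z
  · rw [hyz, hbz]
  by_cases hyx : y = x
  · rw [hyx, hbx]
  by_cases hyzx : y = z * x
  · rw [hyzx, hbzx]
  have hinj := b.injective
  rcases h.gen x hx y hy hx1 hxz hy1 hyz hyx hyzx (b y) (hbX y hy) with
    h' | h' | h' | h' | h' | h' | h' | h'
  · exact absurd (hinj (h'.trans (map_one b).symm)) hy1
  · exact absurd (hinj (h'.trans hbz.symm)) hyz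
  · exact absurd (hinj (h'.trans hbx.symm)) hyx
  · exact absurd (hinj (h'.trans hbzx.symm)) hyzx
  · exact h'
  · exact key z hzX hbz h'
  · exact key x hx hbx h'
  · exact key (z * x) (X.mul_mem hzX hx) hbzx (by rw [h', mul_assoc])

/-- images of elements outside `{1, z}` stay outside -/
theorem apply_ne (b : MulAut W) (hbz : b z = z) (x : W) (hx1 : x ≠ 1) (hxz : x ≠ z) :
    b x ≠ 1 ∧ b x ≠ z :=
  ⟨fun h' => hx1 (b.injective (h'.trans (map_one b).symm)),
    fun h' => hxz (b.injective (h'.trans hbz.symm))⟩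

/-- (q6) an invariant subgroup containing `z` and meeting `X` outside `{1, z}` contains `X` -/
theorem le_of_invariant (h : Q8T X z) (hz2 : z * z = 1) (b : MulAut W)
    (hbX : ∀ x ∈ X, b x ∈ X) (hbz : b z = z) (o : ℕ) (ho : Odd o) (hbo : b ^ o = 1)
    (hfree : ∀ x ∈ X, b x = x → x = 1 ∨ x = z) (T : Subgroup W) (hzT : z ∈ T)
    (hbT : ∀ t ∈ T, b t ∈ T) (x : W) (hxX : x ∈ X) (hxT : x ∈ T) (hx1 : x ≠ 1) (hxz : x ≠ z) :
    X ≤ T := by
  obtain ⟨hy1, hyz⟩ := apply_ne b hbz x hx1 hxz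
  have hyx : b x ≠ x := fun h' => by rcases hfree x hxX h' with h'' | h'' <;> contradiction
  have hyzx : b x ≠ z * x := by
    intro h'
    apply hyx
    apply fix_of_sq_fix b o ho hbo
    rw [pow_two, MulAut.mul_apply, h', map_mul, hbz, h', ← mul_assoc, hz2, one_mul]
  intro w hw
  rcases h.gen x hxX (b x) (hbX x hxX) hx1 hxz hy1 hyz hyx hyzx w hw with
    h' | h' | h' | h' | h' | h' | h' | h' <;> rw [h']
  · exact T.one_mem
  · exact hzT
  · exact hxT
  · exact T.mul_mem hzT hxT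
  · exact hbT x hxT
  · exact T.mul_mem hzT (hbT x hxT)
  · exact T.mul_mem hxT (hbT x hxT)
  · exact T.mul_mem hzT (T.mul_mem hxT (hbT x hxT))

/-- facts on the image of an element outside `{1, z}` under a fixed-point-free automorphism -/
theorem img_facts (hz2 : z * z = 1) (b : MulAut W)
    (hbX : ∀ x ∈ X, b x ∈ X) (hbz : b z = z) (o : ℕ) (ho : Odd o) (hbo : b ^ o = 1)
    (hfree : ∀ x ∈ X, b x = x → x = 1 ∨ x = z) (x : W) (hxX : x ∈ X) (hx1 : x ≠ 1) (hxz : x ≠ z) :
    b x ∈ X ∧ b x ≠ 1 ∧ b x ≠ z ∧ b x ≠ x ∧ b x ≠ z * x := by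
  obtain ⟨hy1, hyz⟩ := apply_ne b hbz x hx1 hxz
  have hyx : b x ≠ x := fun h' => by rcases hfree x hxX h' with h'' | h'' <;> contradiction
  refine ⟨hbX x hxX, hy1, hyz, hyx, ?_⟩
  intro h'
  apply hyx
  apply fix_of_sq_fix b o ho hbo
  rw [pow_two, MulAut.mul_apply, h', map_mul, hbz, h', ← mul_assoc, hz2, one_mul]

/-- the second image is `± x * b x` -/
theorem sq_img (h : Q8T X z) (hz2 : z * z = 1)
    (b : MulAut W)
    (hbX : ∀ x ∈ X, b x ∈ X) (hbz : b z = z) (o : ℕ) (ho : Odd o) (hbo : b ^ o = 1)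
    (hfree : ∀ x ∈ X, b x = x → x = 1 ∨ x = z) (x : W) (hxX : x ∈ X) (hx1 : x ≠ 1) (hxz : x ≠ z) :
    b (b x) = x * b x ∨ b (b x) = z * (x * b x) := by
  obtain ⟨hyX, hy1, hyz, hyx, hyzx⟩ := img_facts hz2 b hbX hbz o ho hbo hfree x hxX hx1 hxz
  obtain ⟨hwX, hw1, hwz, hwy, hwzy⟩ := img_facts hz2 b hbX hbz o ho hbo hfree (b x) hyX hy1 hyz
  have hsq : (b ^ 2) x = b (b x) := by rw [pow_two, MulAut.mul_apply]
  have hwx : b (b x) ≠ x := fun h' => hyx (fix_of_sq_fix b o ho hbo x (hsq.trans h'))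
  have hwzx : b (b x) ≠ z * x := by
    intro h'
    have h4 : ((b ^ 2) ^ 2) x = x := by
      rw [pow_two, MulAut.mul_apply, hsq, h', pow_two, MulAut.mul_apply, map_mul, map_mul, hbz, hbz,
        h', ← mul_assoc, hz2, one_mul]
    have hbo2 : (b ^ 2) ^ o = 1 := by rw [← pow_mul, mul_comm, pow_mul, hbo, one_pow]
    have := fix_of_sq_fix (b ^ 2) o ho hbo2 x h4
    exact hwx (hsq.symm.trans this)
  rcases h.gen x hxX (b x) hyX hx1 hxz hy1 hyz hyx hyzx (b (b x)) hwX with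
    h' | h' | h' | h' | h' | h' | h' | h'
  · exact absurd h' hw1
  · exact absurd h' hwz
  · exact absurd h' hwx
  · exact absurd h' hwzx
  · exact absurd h' hwy
  · exact absurd h' hwzy
  · exact Or.inl h'
  · exact Or.inr h'

/-- the cube of a fixed-point-free odd-order automorphism is trivial on `X` -/
theorem pow_three_fix (h : Q8T X z) (hz2 : z * z = 1) (hzc : ∀ w : W, z * w = w * z)
    (b : MulAut W)
    (hbX : ∀ x ∈ X, b x ∈ X) (hbz : b z = z) (o : ℕ) (ho : Odd o) (hbo : b ^ o = 1)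
    (hfree : ∀ x ∈ X, b x = x → x = 1 ∨ x = z) (x : W) (hxX : x ∈ X) :
    b (b (b x)) = x := by
  by_cases hx1 : x = 1
  · rw [hx1, map_one, map_one, map_one]
  by_cases hxz : x = z
  · rw [hxz, hbz, hbz, hbz]
  obtain ⟨hyX, hy1, hyz, hyx, hyzx⟩ := img_facts hz2 b hbX hbz o ho hbo hfree x hxX hx1 hxz
  have hyy : b x * b x = z := by
    rcases h.sq (b x) hyX with h' | h' | h'
    · exact absurd h' hy1
    · exact absurd h' hyz
    · exact h'
  have hanti := h.anti x hxX (b x) hyX hx1 hxz hy1 hyz hyx hyzx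
  have hyxy : b x * x * b x = x := by
    rw [mul_assoc, hanti, ← mul_assoc, ← hzc, mul_assoc, ← mul_assoc (b x), hyy, ← mul_assoc, hz2,
      one_mul]
  rcases h.sq_img hz2 b hbX hbz o ho hbo hfree x hxX hx1 hxz with h' | h'
  · rw [h', map_mul, h', ← mul_assoc, hyxy]
  · rw [h', map_mul, map_mul, hbz, h']
    calc z * (b x * (z * (x * b x))) = z * ((b x * z) * (x * b x)) := by rw [mul_assoc]
      _ = z * ((z * b x) * (x * b x)) := by rw [hzc (b x)]
      _ = (z * z) * (b x * x * b x) := by simp only [mul_assoc]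
      _ = x := by rw [hz2, one_mul, hyxy]

/-- an odd-order automorphism acting nontrivially on `X` has no fixed points outside `{1, z}` -/
theorem free_of_nontrivial (h : Q8T X z) (hzX : z ∈ X) (hz2 : z * z = 1) (b : MulAut W)
    (hbX : ∀ x ∈ X, b x ∈ X) (hbz : b z = z) (o : ℕ) (ho : Odd o) (hbo : b ^ o = 1)
    (hnt : ∃ x ∈ X, b x ≠ x) : ∀ x ∈ X, b x = x → x = 1 ∨ x = z := by
  intro x hx hbx
  by_contra hcon
  push Not at hcon
  obtain ⟨y, hy, hby⟩ := hnt
  exact hby (h.fix_all hzX hz2 b hbX hbz o ho hbo x hx hcon.1 hcon.2 hbx y hy)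

/-- an automorphism of odd prime order acting nontrivially on `X` has order 3 -/
theorem prime_eq_three (h : Q8T X z) (hzX : z ∈ X) (hz2 : z * z = 1) (hzc : ∀ w : W, z * w = w * z)
    (b : MulAut W) (hbX : ∀ x ∈ X, b x ∈ X) (hbz : b z = z) (p : ℕ) (hp : p.Prime) (hp2 : p ≠ 2)
    (hbp : b ^ p = 1) (hnt : ∃ x ∈ X, b x ≠ x) : p = 3 := by
  have ho : Odd p := hp.odd_of_ne_two hp2
  have hfree := h.free_of_nontrivial hzX hz2 b hbX hbz p ho hbp hnt
  by_contra hp3
  obtain ⟨y, hy, hby⟩ := hnt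
  apply hby
  have hcop : Nat.Coprime 3 p := (Nat.coprime_primes Nat.prime_three hp).2 (fun h' => hp3 h'.symm)
  apply fix_of_coprime_pow b 3 p hcop
  · have := h.pow_three_fix hz2 hzc b hbX hbz p ho hbp hfree y hy
    rw [show (3 : ℕ) = 1 + 1 + 1 by norm_num, pow_succ', pow_succ', pow_one, MulAut.mul_apply,
      MulAut.mul_apply]
    exact this
  · rw [hbp, MulAut.one_apply]

theorem exists_outside (h : Q8T X z) (hz2 : z * z = 1) : ∃ x ∈ X, x ≠ 1 ∧ x ≠ z := by
  by_contra hcon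
  push Not at hcon
  have hfin : Finite X := Nat.finite_of_card_ne_zero (by rw [h.card]; norm_num)
  have hle : X ≤ Subgroup.zpowers z := by
    intro x hx
    by_cases hx1 : x = 1
    · rw [hx1]; exact Subgroup.one_mem _
    · rw [hcon x hx hx1]; exact Subgroup.mem_zpowers z
  have hzf : IsOfFinOrder z := isOfFinOrder_iff_pow_eq_one.2 ⟨2, by norm_num, by rw [pow_two, hz2]⟩
  have hfz : Finite (Subgroup.zpowers z) := Set.finite_coe_iff.2 (IsOfFinOrder.finite_zpowers hzf)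
  have h1 := Subgroup.card_le_of_le hle
  rw [h.card, Nat.card_zpowers] at h1
  have h2 : orderOf z ≤ 2 := Nat.le_of_dvd (by norm_num) (orderOf_dvd_of_pow_eq_one (by rw [pow_two, hz2]))
  omega

theorem pow_mem_of_mem (b : MulAut W) (hbX : ∀ x ∈ X, b x ∈ X) (k : ℕ) :
    ∀ x ∈ X, (b ^ k) x ∈ X := by
  induction k with
  | zero => intro x hx; simpa using hx
  | succ k ih => intro x hx; rw [pow_succ', MulAut.mul_apply]; exact hbX _ (ih x hx)

theorem pow_fix (b : MulAut W) (w : W) (hbz : b w = w) (k : ℕ) : (b ^ k) w = w := by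
  induction k with
  | zero => simp
  | succ k ih => rw [pow_succ', MulAut.mul_apply, ih, hbz]

/-- an odd-order automorphism commuting with a fixed-point-free automorphism `b` of order 3 acts on
`X` as a power of `b` -/
theorem exists_pow_eq (h : Q8T X z) (hzX : z ∈ X) (hz1 : z ≠ 1) (hz2 : z * z = 1)
    (b : MulAut W) (hbX : ∀ x ∈ X, b x ∈ X) (hbz : b z = z) (hb3 : b ^ 3 = 1)
    (hfree : ∀ x ∈ X, b x = x → x = 1 ∨ x = z)
    (e : MulAut W) (heX : ∀ x ∈ X, e x ∈ X) (hez : e z = z) (o : ℕ) (ho : Odd o) (heo : e ^ o = 1)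
    (hcomm : e * b = b * e) : ∃ m : ℕ, ∀ w ∈ X, e w = (b ^ m) w := by
  have h3o : Odd 3 := by decide
  obtain ⟨x, hxX, hx1, hxz⟩ := h.exists_outside hz2
  obtain ⟨hyX, hy1, hyz, hyx, hyzx⟩ := img_facts hz2 b hbX hbz 3 h3o hb3 hfree x hxX hx1 hxz
  obtain ⟨he1, hez'⟩ := apply_ne e hez x hx1 hxz
  -- `e x = δ * b^m x`
  have key : ∃ m : ℕ, e x = (b ^ m) x ∨ e x = z * (b ^ m) x := by
    have hb2 : (b ^ 2) x = b (b x) := by rw [pow_two, MulAut.mul_apply]
    rcases h.gen x hxX (b x) hyX hx1 hxz hy1 hyz hyx hyzx (e x) (heX x hxX) with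
      h' | h' | h' | h' | h' | h' | h' | h'
    · exact absurd h' he1
    · exact absurd h' hez'
    · exact ⟨0, Or.inl (by simpa using h')⟩
    · exact ⟨0, Or.inr (by simpa using h')⟩
    · exact ⟨1, Or.inl (by simpa using h')⟩
    · exact ⟨1, Or.inr (by simpa using h')⟩
    · refine ⟨2, ?_⟩
      rw [hb2]
      rcases h.sq_img hz2 b hbX hbz 3 h3o hb3 hfree x hxX hx1 hxz with h'' | h''
      · left; rw [h', h'']
      · right; rw [h', h'', ← mul_assoc, hz2, one_mul]
    · refine ⟨2, ?_⟩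
      rw [hb2]
      rcases h.sq_img hz2 b hbX hbz 3 h3o hb3 hfree x hxX hx1 hxz with h'' | h''
      · right; rw [h', h'']
      · left; rw [h', h'']
  obtain ⟨m, hm⟩ := key
  refine ⟨m, ?_⟩
  -- the automorphism `g = b^(2m) * e`
  set g : MulAut W := b ^ (2 * m) * e with hg
  have hb3m : ∀ w : W, (b ^ (2 * m)) ((b ^ m) w) = w := by
    intro w
    rw [← MulAut.mul_apply, ← pow_add, show 2 * m + m = 3 * m by ring, pow_mul, hb3, one_pow,
      MulAut.one_apply]
  have hgX : ∀ w ∈ X, g w ∈ X := by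
    intro w hw; rw [hg, MulAut.mul_apply]; exact pow_mem_of_mem b hbX _ _ (heX w hw)
  have hgz : g z = z := by rw [hg, MulAut.mul_apply, hez, pow_fix b z hbz]
  have hcm : Commute (b ^ (2 * m)) e := (Commute.pow_left (show Commute b e from hcomm.symm) _)
  have hgo : g ^ (3 * o) = 1 := by
    rw [hg, hcm.mul_pow, ← pow_mul, show 2 * m * (3 * o) = 3 * (2 * m * o) by ring, pow_mul, hb3,
      one_pow, one_mul, mul_comm, pow_mul, heo, one_pow]
  have h3oo : Odd (3 * o) := h3o.mul ho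
  have hgx : g x = x := by
    rcases hm with hm | hm
    · rw [hg, MulAut.mul_apply, hm, hb3m]
    · exfalso
      have h1 : g x = z * x := by
        rw [hg, MulAut.mul_apply, hm, map_mul, pow_fix b z hbz, hb3m]
      have h2 : (g ^ 2) x = x := by
        rw [pow_two, MulAut.mul_apply, h1, map_mul, hgz, h1, ← mul_assoc, hz2, one_mul]
      have h3 := fix_of_sq_fix g (3 * o) h3oo hgo x h2
      rw [h1] at h3
      exact hz1 (mul_right_cancel (h3.trans (one_mul x).symm))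
  intro w hw
  have h1 := h.fix_all hzX hz2 g hgX hgz (3 * o) h3oo hgo x hxX hx1 hxz hgx w hw
  rw [hg, MulAut.mul_apply] at h1
  have h2 : (b ^ m) ((b ^ (2 * m)) (e w)) = (b ^ m) w := by rw [h1]
  rw [← MulAut.mul_apply, ← pow_add, show m + 2 * m = 3 * m by ring, pow_mul, hb3, one_pow,
    MulAut.one_apply] at h2
  exact h2

end Q8T

end Cfsg.Agent.H2.NCA
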