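import Mathlib
import Cfsg.Agent.H2.NCA.A3
import Cfsg.Agent.H2.HyperplaneGen
import Cfsg.Agent.H2.ExtAction

/-!
# Generation by fixed points of the nonidentity elements of a group `Z_p × Z_p` of automorphisms
(towards S2934)
-/

set_option autoImplicit false

namespace Cfsg.Agent.H2.NCA

open Cfsg.Agent.H2.ExtAct Cfsg.Agent.H2.HyperGen

variable {W : Type*} [Group W]

/-- the subgroup of fixed points of an automorphism -/
def fixSub (a : MulAut W) : Subgroup W where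
  carrier := {w | a w = w}
  one_mem' := map_one a
  mul_mem' := by
    intro x y hx hy
    simp only [Set.mem_ofPred_eq] at hx hy ⊢
    rw [map_mul, hx, hy]
  inv_mem' := by
    intro x hx
    simp only [Set.mem_ofPred_eq] at hx ⊢
    rw [map_inv, hx]

theorem mem_fixSub (a : MulAut W) (w : W) : w ∈ fixSub a ↔ a w = w := Iff.rfl

/-- **Lemma G** -/
theorem gen_le [Finite W] (p : ℕ) [Fact p.Prime] (hp2 : p ≠ 2) (hW : IsPGroup 2 W)
    (A : Subgroup (MulAut W)) (hAc : ∀ a ∈ A, ∀ b ∈ A, a * b = b * a)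
    (hAexp : ∀ a ∈ A, a ^ p = 1) (hAcard : Nat.card A = p ^ 2) (X Y : Subgroup W)
    (hX : ∀ a ∈ A, ∀ x ∈ X, a x ∈ X) (h : ∀ a ∈ A, a ≠ 1 → X ⊓ fixSub a ≤ Y) : X ≤ Y := by
  have hp := (Fact.out : p.Prime)
  have hfinA : Finite A := Nat.finite_of_card_ne_zero (by rw [hAcard]; exact pow_ne_zero _ hp.ne_zero)
  have hEA : Cfsg.IsElementaryAbelian p (AA ↥A W) := by
    refine ⟨⟨⟨?_⟩⟩, ?_⟩
    · rintro ⟨_, a, rfl⟩ ⟨_, b, rfl⟩
      apply Subtype.ext
      show (iA a : SD ↥A W) * iA b = iA b * iA a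
      rw [← map_mul, ← map_mul]
      congr 1
      exact Subtype.ext (hAc a a.2 b b.2)
    · rintro _ ⟨a, rfl⟩
      rw [← map_pow]
      have : a ^ p = 1 := Subtype.ext (by simpa using hAexp a a.2)
      rw [this, map_one]
  have hcard : ¬ p ∣ Nat.card ↥(X.map (iG : W →* SD ↥A W)) := by
    rw [card_map]
    obtain ⟨k, hk⟩ := IsPGroup.iff_card.mp (hW.to_subgroup X)
    rw [hk]
    intro hdvd
    have := (Nat.prime_dvd_prime_iff_eq hp Nat.prime_two).1 (hp.dvd_of_dvd_pow hdvd)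
    exact hp2 this
  have hnorm : AA ↥A W ≤ Subgroup.normalizer ((X.map (iG : W →* SD ↥A W) : Subgroup (SD ↥A W)) : Set (SD ↥A W)) :=
    (AA_le_normalizer_map_iff X).2 (fun a x hx => hX a a.2 x hx)
  have hgen := eq_hyperGen (p := p) (AA ↥A W) (X.map (iG : W →* SD ↥A W)) hEA hcard hnorm
  have hle : X.map (iG : W →* SD ↥A W) ≤ Y.map (iG : W →* SD ↥A W) := by
    rw [hgen]
    apply iSup_le
    rintro ⟨B, hBA, hind⟩
    have hBne : B ≠ ⊥ := by
      rintro rfl
      rw [Subgroup.relIndex_bot_left, card_AA, hAcard] at hind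
      have h1 := hp.one_lt
      nlinarith
    obtain ⟨⟨b, hbB⟩, hb1'⟩ := (Subgroup.ne_bot_iff_exists_ne_one).1 hBne
    have hb1 : b ≠ 1 := fun h' => hb1' (Subtype.ext h')
    obtain ⟨a, rfl⟩ := hBA hbB
    have ha1 : (a : MulAut W) ≠ 1 := by
      intro h'
      apply hb1
      have : a = 1 := Subtype.ext h'
      rw [this, map_one]
    rintro _ ⟨⟨x, hx, rfl⟩, hc⟩
    have h1 := (Subgroup.mem_centralizer_iff.1 hc) (iA a) hbB
    have h2 : (iA a : SD ↥A W) * iG x * (iA a)⁻¹ = iG x := by rw [h1]; group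
    rw [conj_iA_iG] at h2
    have h3 : (a : MulAut W) x = x := iG_injective h2
    exact ⟨x, h a a.2 ha1 ⟨hx, h3⟩, rfl⟩
  exact (Subgroup.map_le_map_iff_of_injective iG_injective).1 hle

end Cfsg.Agent.H2.NCA
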