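import Mathlib
import Cfsg.Agent.H2.NCA.A4

/-!
# The central involution (towards S2934)
-/

set_option autoImplicit false

namespace Cfsg.Agent.H2.NCA

variable {W : Type*} [Group W]

/-- the hypotheses: `A ≤ E` abelian groups of automorphisms of the 2-group `W`, `A ≅ Z_p × Z_p`,
every nonidentity element of `E` fixes at most one involution -/
structure Setup (W : Type*) [Group W] (p : ℕ) (E A : Subgroup (MulAut W)) : Prop where
  hW : IsPGroup 2 W
  hp : p.Prime
  hp2 : p ≠ 2
  hAE : A ≤ E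
  hEc : ∀ a ∈ E, ∀ b ∈ E, a * b = b * a
  hEodd : ∀ e ∈ E, ∃ o : ℕ, Odd o ∧ e ^ o = 1
  hAexp : ∀ a ∈ A, a ^ p = 1
  hAcard : Nat.card A = p ^ 2
  hfix : ∀ e ∈ E, e ≠ 1 → ∀ x y : W, orderOf x = 2 → orderOf y = 2 → e x = x → e y = y → x = y

/-- the common fixed points -/
def fixAll (A : Subgroup (MulAut W)) : Subgroup W where
  carrier := {w | ∀ a ∈ A, a w = w}
  one_mem' := fun a _ => map_one a
  mul_mem' := by
    intro x y hx hy a ha
    rw [map_mul, hx a ha, hy a ha]
  inv_mem' := by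
    intro x hx a ha
    rw [map_inv, hx a ha]

theorem mem_fixAll (A : Subgroup (MulAut W)) (w : W) : w ∈ fixAll A ↔ ∀ a ∈ A, a w = w := Iff.rfl

/-- central elements of square one -/
def omegaCenter (W : Type*) [Group W] : Subgroup W where
  carrier := {x | x ∈ Subgroup.center W ∧ x * x = 1}
  one_mem' := ⟨Subgroup.one_mem _, one_mul 1⟩
  mul_mem' := by
    rintro x y ⟨hx, hx2⟩ ⟨hy, hy2⟩
    refine ⟨Subgroup.mul_mem _ hx hy, ?_⟩
    have hc : y * x = x * y := (Subgroup.mem_center_iff.1 hx y)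
    calc x * y * (x * y) = x * (y * x) * y := by group
      _ = x * x * (y * y) := by rw [hc]; group
      _ = 1 := by rw [hx2, hy2, one_mul]
  inv_mem' := by
    rintro x ⟨hx, hx2⟩
    refine ⟨Subgroup.inv_mem _ hx, ?_⟩
    rw [← mul_inv_rev, hx2, inv_one]

theorem omegaCenter_invariant (e : MulAut W) (x : W) (hx : x ∈ omegaCenter W) :
    e x ∈ omegaCenter W := by
  obtain ⟨hx, hx2⟩ := hx
  refine ⟨?_, by rw [← map_mul, hx2, map_one]⟩
  rw [Subgroup.mem_center_iff]
  intro g
  have h1 := Subgroup.mem_center_iff.1 hx (e.symm g)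
  have h2 := congrArg e h1
  rw [map_mul, map_mul, MulEquiv.apply_symm_apply] at h2
  exact h2

theorem orderOf_eq_two_of_sq {x : W} (hx1 : x ≠ 1) (hx2 : x * x = 1) : orderOf x = 2 :=
  orderOf_eq_prime (by rw [pow_two]; exact hx2) hx1

variable {p : ℕ} {E A : Subgroup (MulAut W)}

theorem Setup.exists_ne_one (S : Setup W p E A) : ∃ a ∈ A, a ≠ 1 := by
  have hfin : Finite A := Nat.finite_of_card_ne_zero (by rw [S.hAcard]; exact pow_ne_zero _ S.hp.ne_zero)
  have h1 : 1 < Nat.card A := by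
    rw [S.hAcard]; exact Nat.one_lt_pow (by norm_num) S.hp.one_lt
  have hnt : Nontrivial A := Finite.one_lt_card_iff_nontrivial.1 h1
  obtain ⟨a, ha⟩ := exists_ne (1 : A)
  exact ⟨a, a.2, fun h => ha (Subtype.ext h)⟩

/-- the central involution `z` -/
theorem Setup.exists_z [Finite W] (S : Setup W p E A) :
    ∃ z : W, z ≠ 1 ∧ z * z = 1 ∧ (∀ w, z * w = w * z) ∧ (∀ e : MulAut W, e z = z) ∧
      ∀ e ∈ E, e ≠ 1 → ∀ x, x * x = 1 → e x = x → x = 1 ∨ x = z := by
  haveI : Fact p.Prime := ⟨S.hp⟩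
  obtain ⟨a0, ha0, ha01⟩ := S.exists_ne_one
  -- `W` is nontrivial
  have hWnt : Nontrivial W := by
    by_contra hcon
    rw [not_nontrivial_iff_subsingleton] at hcon
    apply ha01
    ext w
    exact Subsingleton.elim _ _
  have hcnt : Nontrivial (Subgroup.center W) := S.hW.center_nontrivial
  have h2dvd : 2 ∣ Nat.card (Subgroup.center W) := by
    obtain ⟨k, hk⟩ := IsPGroup.iff_card.mp (S.hW.to_subgroup (Subgroup.center W))
    rw [hk]
    rcases k with _ | k
    · exfalso
      have := Finite.one_lt_card_iff_nontrivial.2 hcnt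
      rw [hk] at this
      simp at this
    · exact Dvd.intro_left _ (pow_succ 2 k).symm
  haveI : Fact (Nat.Prime 2) := ⟨Nat.prime_two⟩
  obtain ⟨c, hc⟩ := exists_prime_orderOf_dvd_card' 2 h2dvd
  have hz0 : orderOf (c : W) = 2 := by rw [Subgroup.orderOf_coe]; exact hc
  have hz01 : (c : W) ≠ 1 := by
    intro h; rw [h, orderOf_one] at hz0; norm_num at hz0
  have hz02 : (c : W) * (c : W) = 1 := by
    have := pow_orderOf_eq_one (c : W)
    rwa [hz0, pow_two] at this
  have hz0T : (c : W) ∈ omegaCenter W := ⟨c.2, hz02⟩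
  -- `T ≤ fixAll A`
  have hT : omegaCenter W ≤ omegaCenter W ⊓ fixAll A := by
    apply gen_le p S.hp2 S.hW A (fun a ha b hb => S.hEc a (S.hAE ha) b (S.hAE hb)) S.hAexp S.hAcard
    · intro a _ x hx
      exact omegaCenter_invariant a x hx
    · intro a ha ha1 x hx
      refine ⟨hx.1, ?_⟩
      intro b hb
      by_cases hx1 : x = 1
      · rw [hx1, map_one]
      have hax : a x = x := hx.2
      have hx2 : x * x = 1 := hx.1.2
      have hbx1 : b x ≠ 1 := fun h => hx1 (b.injective (h.trans (map_one b).symm))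
      have hbx2 : b x * b x = 1 := by rw [← map_mul, hx2, map_one]
      have habx : a (b x) = b x := by
        rw [← MulAut.mul_apply, S.hEc a (S.hAE ha) b (S.hAE hb), MulAut.mul_apply, hax]
      exact (S.hfix a (S.hAE ha) ha1 x (b x) (orderOf_eq_two_of_sq hx1 hx2)
        (orderOf_eq_two_of_sq hbx1 hbx2) hax habx).symm
  have huniqT : ∀ x ∈ omegaCenter W, x ≠ 1 → x = (c : W) := by
    intro x hx hx1
    have h1 := (hT hx).2 a0 ha0
    have h2 := (hT hz0T).2 a0 ha0
    exact S.hfix a0 (S.hAE ha0) ha01 x c (orderOf_eq_two_of_sq hx1 hx.2) hz0 h1 h2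
  have hfixz : ∀ e : MulAut W, e (c : W) = c := by
    intro e
    apply huniqT _ (omegaCenter_invariant e _ hz0T)
    exact fun h => hz01 (e.injective (h.trans (map_one e).symm))
  refine ⟨c, hz01, hz02, fun w => (Subgroup.mem_center_iff.1 c.2 w).symm, hfixz, ?_⟩
  intro e he he1 x hx2 hex
  by_cases hx1 : x = 1
  · exact Or.inl hx1
  · right
    exact S.hfix e he he1 x c (orderOf_eq_two_of_sq hx1 hx2) hz0 hex (hfixz e)

end Cfsg.Agent.H2.NCA
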