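import Mathlib
import Cfsg.Agent.H2.NCA.A5

/-!
# Fixed point subgroups are quaternion (towards S2934)
-/

set_option autoImplicit false

namespace Cfsg.Agent.H2.NCA

variable {W : Type*} [Group W]

/-- the setup together with the central involution -/
structure Setup2 (W : Type*) [Group W] (p : ℕ) (E A : Subgroup (MulAut W)) (z : W) : Prop where
  S : Setup W p E A
  hz1 : z ≠ 1
  hz2 : z * z = 1
  hzc : ∀ w, z * w = w * z
  hzfix : ∀ e : MulAut W, e z = z
  huniq : ∀ e ∈ E, e ≠ 1 → ∀ x, x * x = 1 → e x = x → x = 1 ∨ x = z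

variable {p : ℕ} {E A : Subgroup (MulAut W)} {z : W}

theorem Setup2.map_fixSub (D : Setup2 W p E A z) (a : MulAut W) (ha : a ∈ E) (b : MulAut W)
    (hb : b ∈ E) (x : W) (hx : x ∈ fixSub a) : b x ∈ fixSub a := by
  show a (b x) = b x
  rw [← MulAut.mul_apply, D.S.hEc a ha b hb, MulAut.mul_apply, (hx : a x = x)]

theorem Setup2.z_mem_fixSub (D : Setup2 W p E A z) (a : MulAut W) : z ∈ fixSub a := D.hzfix a

/-- restriction of `b` to the fixed points of `a` -/
def restrictFix (a b : MulAut W) (hab : a * b = b * a) : MulAut ↥(fixSub a) where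
  toFun x := ⟨b x, by
    show a (b x) = b x
    rw [← MulAut.mul_apply, hab, MulAut.mul_apply, (x.2 : a x = x)]⟩
  invFun x := ⟨b⁻¹ x, by
    show a (b⁻¹ x) = b⁻¹ x
    have h1 : a * b⁻¹ = b⁻¹ * a := by
      rw [eq_inv_mul_iff_mul_eq, ← mul_assoc, ← hab, mul_assoc, mul_inv_cancel, mul_one]
    rw [← MulAut.mul_apply, h1, MulAut.mul_apply, (x.2 : a x = x)]⟩
  left_inv x := by
    apply Subtype.ext
    show b⁻¹ (b x) = x
    rw [← MulAut.mul_apply, inv_mul_cancel, MulAut.one_apply]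
  right_inv x := by
    apply Subtype.ext
    show b (b⁻¹ x) = x
    rw [← MulAut.mul_apply, mul_inv_cancel, MulAut.one_apply]
  map_mul' x y := by
    apply Subtype.ext
    show b ((x : W) * y) = b x * b y
    rw [map_mul]

theorem restrictFix_pow (a b : MulAut W) (hab : a * b = b * a) (m : ℕ) (x : ↥(fixSub a)) :
    (((restrictFix a b hab) ^ m) x : W) = (b ^ m) (x : W) := by
  induction m generalizing x with
  | zero => simp
  | succ m ih =>
    rw [pow_succ', MulAut.mul_apply, pow_succ', MulAut.mul_apply, ← ih]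
    rfl

/-- **Lemma L applied**: if `b` acts nontrivially on the fixed points of `a` then they form a
quaternion group -/
theorem Setup2.q8t [Finite W] (D : Setup2 W p E A z) (a : MulAut W) (ha : a ∈ E) (ha1 : a ≠ 1)
    (b : MulAut W) (hb : b ∈ E) (hnt : ∃ x ∈ fixSub a, b x ≠ x) : Q8T (fixSub a) z := by
  obtain ⟨o, ho, hbo⟩ := D.S.hEodd b hb
  have hab := D.S.hEc a ha b hb
  obtain ⟨x, hx, hbx⟩ := hnt
  have hβ1 : restrictFix a b hab ≠ 1 := by
    intro h
    apply hbx
    have := congrArg (fun f : MulAut ↥(fixSub a) => ((f ⟨x, hx⟩ : ↥(fixSub a)) : W)) h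
    exact this
  have hβo : (restrictFix a b hab) ^ o = 1 := by
    ext y
    rw [restrictFix_pow, hbo]
    rfl
  obtain ⟨φ⟩ := lemmaL (D.S.hW.to_subgroup (fixSub a)) ⟨z, D.z_mem_fixSub a⟩
    (fun h => D.hz1 (congrArg Subtype.val h)) (Subtype.ext D.hz2)
    (fun y hy => by
      rcases D.huniq a ha ha1 (y : W) (congrArg Subtype.val hy) y.2 with h | h
      · exact Or.inl (Subtype.ext h)
      · exact Or.inr (Subtype.ext h))
    (restrictFix a b hab) hβ1 o ho hβo
  exact q8t_of_equiv (fixSub a) z (D.z_mem_fixSub a) D.hz1 D.hz2 φ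

/-- in the situation of `q8t`, `b` has no fixed points outside `{1, z}` -/
theorem Setup2.free [Finite W] (D : Setup2 W p E A z) (a : MulAut W) (ha : a ∈ E) (ha1 : a ≠ 1)
    (b : MulAut W) (hb : b ∈ E) (hnt : ∃ x ∈ fixSub a, b x ≠ x) :
    ∀ x ∈ fixSub a, b x = x → x = 1 ∨ x = z := by
  obtain ⟨o, ho, hbo⟩ := D.S.hEodd b hb
  exact (D.q8t a ha ha1 b hb hnt).free_of_nontrivial (D.z_mem_fixSub a) D.hz2 b
    (fun x hx => D.map_fixSub a ha b hb x hx) (D.hzfix b) o ho hbo hnt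

/-- the common fixed points of `A` are `{1, z}`, and `p = 3` -/
theorem Setup2.fixAll_and_three [Finite W] (D : Setup2 W p E A z) :
    (∀ w ∈ fixAll A, w = 1 ∨ w = z) ∧ p = 3 := by
  haveI : Fact p.Prime := ⟨D.S.hp⟩
  obtain ⟨a0, ha0, ha01⟩ := D.S.exists_ne_one
  have hex : ∃ a ∈ A, a ≠ 1 ∧ ∃ x ∈ fixSub a, ∃ b ∈ A, b x ≠ x := by
    by_contra hcon
    push Not at hcon
    have h1 : (⊤ : Subgroup W) ≤ fixAll A := by
      apply gen_le p D.S.hp2 D.S.hW A (fun a ha b hb => D.S.hEc a (D.S.hAE ha) b (D.S.hAE hb))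
        D.S.hAexp D.S.hAcard
      · intro a _ x _; exact Subgroup.mem_top _
      · intro a ha ha1 x hx b hb
        exact hcon a ha ha1 x hx.2 b hb
    apply ha01
    ext w
    exact h1 (Subgroup.mem_top w) a0 ha0
  obtain ⟨a, ha, ha1, x, hx, b, hb, hbx⟩ := hex
  have hnt : ∃ x ∈ fixSub a, b x ≠ x := ⟨x, hx, hbx⟩
  have hq := D.q8t a (D.S.hAE ha) ha1 b (D.S.hAE hb) hnt
  have hfree := D.free a (D.S.hAE ha) ha1 b (D.S.hAE hb) hnt
  refine ⟨?_, ?_⟩
  · intro w hw
    exact hfree w (hw a ha) (hw b hb)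
  · exact hq.prime_eq_three (D.z_mem_fixSub a) D.hz2 D.hzc b
      (fun x hx => D.map_fixSub a (D.S.hAE ha) b (D.S.hAE hb) x hx) (D.hzfix b) p D.S.hp D.S.hp2
      (D.S.hAexp b hb) hnt

/-- two independent elements of `A` have only `{1, z}` as common fixed points -/
theorem Setup2.inf_fix [Finite W] (D : Setup2 W p E A z) (a0 : MulAut W) (ha0 : a0 ∈ A)
    (ha01 : a0 ≠ 1) (a : MulAut W) (ha : a ∈ A) (hna : a ∉ Subgroup.zpowers a0) (w : W)
    (h0 : a0 w = w) (h1 : a w = w) : w = 1 ∨ w = z := by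
  have hp := D.S.hp
  haveI : Fact p.Prime := ⟨hp⟩
  have hfin : Finite A := Nat.finite_of_card_ne_zero (by rw [D.S.hAcard]; exact pow_ne_zero _ hp.ne_zero)
  let B : Subgroup (MulAut W) := A ⊓ MulAction.stabilizer (MulAut W) w
  have hBA : B ≤ A := inf_le_left
  have ha0B : a0 ∈ B := ⟨ha0, h0⟩
  have haB : a ∈ B := ⟨ha, h1⟩
  have hzle : Subgroup.zpowers a0 ≤ B := by rw [Subgroup.zpowers_le]; exact ha0B
  have hzlt : Subgroup.zpowers a0 < B := lt_of_le_of_ne hzle (fun h => hna (h ▸ haB))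
  have hfB : Finite B := Finite.of_injective (Subgroup.inclusion hBA) (Subgroup.inclusion_injective hBA)
  have hcz : Nat.card (Subgroup.zpowers a0) = p := by
    rw [Nat.card_zpowers]
    exact orderOf_eq_prime (D.S.hAexp a0 ha0) ha01
  have hlt : p < Nat.card B := by
    have h1 := Subgroup.card_le_of_le hzle
    rw [hcz] at h1
    rcases Nat.lt_or_ge p (Nat.card B) with h | h
    · exact h
    · exfalso
      exact hzlt.ne (Subgroup.eq_of_le_of_card_ge hzle (by rw [hcz]; exact h))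
  have hdvd : Nat.card B ∣ p ^ 2 := by
    rw [← D.S.hAcard]; exact Subgroup.card_dvd_of_le hBA
  obtain ⟨k, hk2, hk⟩ := (Nat.dvd_prime_pow hp).1 hdvd
  have hk' : k = 2 := by
    interval_cases k
    · rw [hk, pow_zero] at hlt; have := hp.one_lt; omega
    · rw [hk, pow_one] at hlt; omega
    · rfl
  have hBeq : B = A := by
    apply Subgroup.eq_of_le_of_card_ge hBA
    rw [hk, hk', D.S.hAcard]
  have hw : w ∈ fixAll A := by
    intro c hc
    have : c ∈ B := hBeq ▸ hc
    exact this.2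
  exact D.fixAll_and_three.1 w hw

theorem mem_zpowers_of_pow_three {G : Type*} [Group G] (a0 a : G) (h3 : a0 ^ 3 = 1) :
    a ∈ Subgroup.zpowers a0 ↔ a = 1 ∨ a = a0 ∨ a = a0⁻¹ := by
  constructor
  · intro h
    obtain ⟨k, rfl⟩ := Subgroup.mem_zpowers_iff.1 h
    have h1 : a0 ^ k = a0 ^ (k % 3) := zpow_eq_zpow_emod' k (by exact_mod_cast h3)
    have h2 : 0 ≤ k % 3 := Int.emod_nonneg _ (by norm_num)
    have h3' : k % 3 < 3 := Int.emod_lt_of_pos _ (by norm_num)
    rw [h1]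
    have hinv : a0 ^ (2 : ℤ) = a0⁻¹ := by
      rw [eq_inv_iff_mul_eq_one]
      have : a0 ^ (2 : ℤ) * a0 = a0 ^ 3 := by
        rw [show (2 : ℤ) = ((2 : ℕ) : ℤ) by norm_num, zpow_natCast, ← pow_succ]
      rw [this, h3]
    interval_cases (k % 3)
    · left; simp
    · right; left; simp
    · right; right; exact hinv
  · rintro (h | h | h)
    · rw [h]; exact Subgroup.one_mem _
    · rw [h]; exact Subgroup.mem_zpowers _
    · rw [h]; exact Subgroup.inv_mem _ (Subgroup.mem_zpowers _)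

end Cfsg.Agent.H2.NCA
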