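import Mathlib
import Cfsg.Agent.H2.NCA.A6

/-!
# The second centre of an invariant subgroup (towards S2934)
-/

set_option autoImplicit false

namespace Cfsg.Agent.H2.NCA

variable {W : Type*} [Group W]

theorem mem_zpowers_of_sq {G : Type*} [Group G] (z w : G) (hz2 : z * z = 1) :
    w ∈ Subgroup.zpowers z ↔ w = 1 ∨ w = z := by
  constructor
  · intro h
    obtain ⟨k, rfl⟩ := Subgroup.mem_zpowers_iff.1 h
    have h1 : z ^ k = z ^ (k % 2) :=
      zpow_eq_zpow_emod' k (by rw [pow_two, hz2])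
    have h2 : 0 ≤ k % 2 := Int.emod_nonneg _ (by norm_num)
    have h3' : k % 2 < 2 := Int.emod_lt_of_pos _ (by norm_num)
    rw [h1]
    interval_cases (k % 2)
    · left; simp
    · right; simp
  · rintro (h | h)
    · rw [h]; exact Subgroup.one_mem _
    · rw [h]; exact Subgroup.mem_zpowers _

/-- commuting up to the central involution `z` -/
def CommZ (z x c : W) : Prop := x * c = c * x ∨ x * c = z * (c * x)

theorem CommZ.symm' {z x c : W} (hz2 : z * z = 1) (h : CommZ z x c) :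
    CommZ z c x := by
  rcases h with h | h
  · exact Or.inl h.symm
  · right; rw [h, ← mul_assoc, hz2, one_mul]

/-- the second centre of `C` relative to `{1, z}` -/
def secondCenter (z : W) (hz2 : z * z = 1) (hzc : ∀ w, z * w = w * z) (C : Subgroup W) :
    Subgroup W where
  carrier := {x | x ∈ C ∧ ∀ c ∈ C, CommZ z x c}
  one_mem' := ⟨C.one_mem, fun c _ => Or.inl (by rw [one_mul, mul_one])⟩
  mul_mem' := by
    rintro x y ⟨hx, hx'⟩ ⟨hy, hy'⟩
    refine ⟨C.mul_mem hx hy, fun c hc => ?_⟩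
    rcases hx' c hc with h1 | h1 <;> rcases hy' c hc with h2 | h2
    · left
      rw [mul_assoc, h2, ← mul_assoc, h1, mul_assoc]
    · right
      rw [mul_assoc, h2, ← mul_assoc, ← hzc, mul_assoc, ← mul_assoc x, h1, mul_assoc]
    · right
      rw [mul_assoc, h2, ← mul_assoc, h1, mul_assoc, mul_assoc]
    · left
      rw [mul_assoc, h2, ← mul_assoc, ← hzc, mul_assoc, ← mul_assoc x, h1, ← mul_assoc, ← mul_assoc,
        hz2, one_mul, mul_assoc]
  inv_mem' := by
    rintro x ⟨hx, hx'⟩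
    refine ⟨C.inv_mem hx, fun c hc => ?_⟩
    rcases hx' c hc with h1 | h1
    · left
      rw [inv_mul_eq_iff_eq_mul, ← mul_assoc, h1, mul_assoc, mul_inv_cancel, mul_one]
    · right
      rw [inv_mul_eq_iff_eq_mul, ← mul_assoc, ← mul_assoc, ← hzc, mul_assoc z, h1, ← mul_assoc,
        hz2, one_mul, mul_assoc, mul_inv_cancel, mul_one]

theorem mem_secondCenter (z : W) (hz2 : z * z = 1) (hzc : ∀ w, z * w = w * z) (C : Subgroup W)
    (x : W) : x ∈ secondCenter z hz2 hzc C ↔ x ∈ C ∧ ∀ c ∈ C, CommZ z x c := Iff.rfl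

/-- a 2-group `C` properly containing `{1, z}` has an element outside `{1, z}` in its second
centre -/
theorem exists_secondCenter [Finite W] (hW : IsPGroup 2 W) (z : W) (hz2 : z * z = 1)
    (hzc : ∀ w, z * w = w * z) (C : Subgroup W) (hzC : z ∈ C) (hne : ∃ y ∈ C, y ≠ 1 ∧ y ≠ z) :
    ∃ x ∈ secondCenter z hz2 hzc C, x ≠ 1 ∧ x ≠ z := by
  let z' : ↥C := ⟨z, hzC⟩
  have hz'2 : z' * z' = 1 := Subtype.ext hz2
  let N : Subgroup ↥C := Subgroup.zpowers z'
  have hNn : N.Normal := by
    refine ⟨fun n hn g => ?_⟩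
    have hc : ∀ g : ↥C, g * n = n * g := by
      intro g
      rcases (mem_zpowers_of_sq z' n hz'2).1 hn with h | h
      · rw [h, one_mul, mul_one]
      · rw [h]; exact Subtype.ext (hzc g).symm
    rw [hc g, mul_assoc, mul_inv_cancel, mul_one]
    exact hn
  obtain ⟨y, hyC, hy1, hyz⟩ := hne
  have hyN : (⟨y, hyC⟩ : ↥C) ∉ N := by
    intro h
    rcases (mem_zpowers_of_sq z' _ hz'2).1 h with h | h
    · exact hy1 (congrArg Subtype.val h)
    · exact hyz (congrArg Subtype.val h)
  have hQnt : Nontrivial (↥C ⧸ N) :=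
    ⟨⟨QuotientGroup.mk ⟨y, hyC⟩, 1, fun h => hyN ((QuotientGroup.eq_one_iff _).1 h)⟩⟩
  have hQp : IsPGroup 2 (↥C ⧸ N) := (hW.to_subgroup C).to_quotient N
  haveI : Fact (Nat.Prime 2) := ⟨Nat.prime_two⟩
  have hcnt : Nontrivial (Subgroup.center (↥C ⧸ N)) := hQp.center_nontrivial
  obtain ⟨q, hq⟩ := exists_ne (1 : Subgroup.center (↥C ⧸ N))
  obtain ⟨x, hx⟩ := QuotientGroup.mk_surjective (q : ↥C ⧸ N)
  have hxN : x ∉ N := by
    intro h
    apply hq
    apply Subtype.ext
    rw [← hx]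
    exact (QuotientGroup.eq_one_iff _).2 h
  refine ⟨x, ⟨x.2, fun c hc => ?_⟩, ?_, ?_⟩
  · have h1 : (QuotientGroup.mk ⟨c, hc⟩ : ↥C ⧸ N) * QuotientGroup.mk x =
        QuotientGroup.mk x * QuotientGroup.mk ⟨c, hc⟩ := by
      rw [hx]; exact (Subgroup.mem_center_iff.1 q.2 _)
    rw [← QuotientGroup.mk_mul, ← QuotientGroup.mk_mul, QuotientGroup.eq] at h1
    rcases (mem_zpowers_of_sq z' _ hz'2).1 h1 with h | h
    · left
      have := congrArg Subtype.val (inv_mul_eq_one.1 h)
      exact this.symm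
    · right
      have h2 : x * ⟨c, hc⟩ = (⟨c, hc⟩ * x) * z' := by rw [← h]; group
      have := congrArg Subtype.val h2
      simp only [Subgroup.coe_mul] at this
      rw [this, hzc]
  · intro h
    apply hxN
    have : x = 1 := Subtype.ext h
    rw [this]; exact Subgroup.one_mem _
  · intro h
    apply hxN
    have : x = z' := Subtype.ext h
    rw [this]; exact Subgroup.mem_zpowers _

end Cfsg.Agent.H2.NCA
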