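import Mathlib
import Cfsg.Agent.H2.NCA.A7

/-!
# Splitting off a quaternion factor (towards S2934)
-/

set_option autoImplicit false

namespace Cfsg.Agent.H2.NCA

variable {W : Type*} [Group W]

/-- an element commuting up to sign with `X`, fixed by a fixed-point-free automorphism of `X`,
centralizes `X` -/
theorem Q8T.comm_of_fixed {X : Subgroup W} {z : W} (h : Q8T X z) (hz1 : z ≠ 1) (hz2 : z * z = 1)
    (hzc : ∀ w, z * w = w * z) (a : MulAut W) (haX : ∀ x ∈ X, a x ∈ X) (haz : a z = z) (o : ℕ)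
    (ho : Odd o) (hao : a ^ o = 1) (hfree : ∀ x ∈ X, a x = x → x = 1 ∨ x = z) (y : W)
    (hay : a y = y) (hy : ∀ x' ∈ X, CommZ z x' y) : ∀ x' ∈ X, x' * y = y * x' := by
  intro x' hx'
  by_cases hx1 : x' = 1
  · rw [hx1, one_mul, mul_one]
  by_cases hxz : x' = z
  · rw [hxz, hzc]
  rcases hy x' hx' with h1 | h1
  · exact h1
  exfalso
  have h2 : a x' * y = z * (y * a x') := by
    have := congrArg a h1
    rwa [map_mul, map_mul, map_mul, hay, haz] at this
  have h3 : a (a x') * y = z * (y * a (a x')) := by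
    have := congrArg a h2
    rwa [map_mul, map_mul, map_mul, hay, haz] at this
  have key : ∀ ε : W, (∀ w, ε * w = w * ε) → a (a x') = ε * (x' * a x') →
      a (a x') * y = y * a (a x') := by
    intro ε hε he
    rw [he]
    calc ε * (x' * a x') * y = ε * (x' * (a x' * y)) := by simp only [mul_assoc]
      _ = ε * (x' * (z * (y * a x'))) := by rw [h2]
      _ = ε * (z * ((x' * y) * a x')) := by
          rw [← mul_assoc x' z, ← hzc x', mul_assoc z, mul_assoc x']
      _ = ε * (z * ((z * (y * x')) * a x')) := by rw [h1]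
      _ = ε * ((z * z) * (y * (x' * a x'))) := by simp only [mul_assoc]
      _ = y * (ε * (x' * a x')) := by
          rw [hz2, one_mul, ← mul_assoc, hε y, mul_assoc]
  have h4 : a (a x') * y = y * a (a x') := by
    rcases h.sq_img hz2 a haX haz o ho hao hfree x' hx' hx1 hxz with h' | h'
    · exact key 1 (fun w => by rw [one_mul, mul_one]) (by rw [one_mul]; exact h')
    · exact key z hzc h'
  rw [h4] at h3
  apply hz1
  have : 1 * (y * a (a x')) = z * (y * a (a x')) := by rw [one_mul]; exact h3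
  exact (mul_right_cancel this).symm

/-- index two: the centralizer in `K` of an element `u` commuting up to sign with `K` and
anticommuting with some `v ∈ K` -/
theorem idx_two [Finite W] (z : W) (hz1 : z ≠ 1) (hz2 : z * z = 1) (hzc : ∀ w, z * w = w * z)
    (K : Subgroup W) (u v : W) (hvK : v ∈ K) (huv : u * v = z * (v * u))
    (hK : ∀ c ∈ K, CommZ z u c) :
    (∀ c ∈ K, c ∈ Subgroup.centralizer ({u} : Set W) ∨ c * v ∈ Subgroup.centralizer ({u} : Set W)) ∧
      Nat.card K = 2 * Nat.card ↥(K ⊓ Subgroup.centralizer ({u} : Set W)) := by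
  have hmem : ∀ c : W, c ∈ Subgroup.centralizer ({u} : Set W) ↔ u * c = c * u := by
    intro c
    rw [Subgroup.mem_centralizer_iff]
    constructor
    · intro h; exact h u rfl
    · intro h x hx; rw [Set.mem_singleton_iff.1 hx]; exact h
  have hne : ∀ w : W, z * w ≠ w := by
    intro w h
    apply hz1
    have : z * w = 1 * w := by rw [one_mul]; exact h
    exact mul_right_cancel this
  have hcase1 : ∀ c : W, u * c = c * u → u * (c * v) = z * (c * v * u) := by
    intro c hc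
    rw [← mul_assoc, hc, mul_assoc, huv, ← mul_assoc, ← hzc, mul_assoc, mul_assoc]
  have hcase2 : ∀ c : W, u * c = z * (c * u) → u * (c * v) = c * v * u := by
    intro c hc
    rw [← mul_assoc, hc, mul_assoc, mul_assoc, huv, ← mul_assoc c, ← hzc c, mul_assoc, ← mul_assoc,
      hz2, one_mul, mul_assoc]
  refine ⟨?_, ?_⟩
  · intro c hc
    rcases hK c hc with h | h
    · left; exact (hmem c).2 h
    · right; exact (hmem _).2 (hcase2 c h)
  · let K1 : Subgroup W := K ⊓ Subgroup.centralizer ({u} : Set W)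
    let H : Subgroup ↥K := K1.subgroupOf K
    have hidx : H.index = 2 := by
      rw [Subgroup.index_eq_two_iff]
      refine ⟨⟨v, hvK⟩, fun b => ?_⟩
      have hb1 : b ∈ H ↔ u * (b : W) = (b : W) * u := by
        rw [Subgroup.mem_subgroupOf]
        constructor
        · intro h; exact (hmem _).1 h.2
        · intro h; exact ⟨b.2, (hmem _).2 h⟩
      have hb2 : b * ⟨v, hvK⟩ ∈ H ↔ u * ((b : W) * v) = (b : W) * v * u := by
        rw [Subgroup.mem_subgroupOf]
        constructor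
        · intro h; exact (hmem _).1 h.2
        · intro h; exact ⟨K.mul_mem b.2 hvK, (hmem _).2 h⟩
      rcases hK b b.2 with h | h
      · right
        refine ⟨hb1.2 h, fun h' => ?_⟩
        have := hb2.1 h'
        rw [hcase1 _ h] at this
        exact hne _ this
      · left
        refine ⟨hb2.2 (hcase2 _ h), fun h' => ?_⟩
        have := hb1.1 h'
        rw [h] at this
        exact hne _ this
    have h1 := Subgroup.card_mul_index H
    rw [hidx] at h1
    have h2 : Nat.card H = Nat.card K1 :=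
      Nat.card_congr (Subgroup.subgroupOfEquivOfLe (inf_le_left : K1 ≤ K)).toEquiv
    rw [h2] at h1
    show Nat.card K = 2 * Nat.card K1
    omega

variable {p : ℕ} {E A : Subgroup (MulAut W)} {z : W}

/-- splitting off a quaternion factor from an invariant subgroup -/
theorem Setup2.peel [Finite W] (D : Setup2 W p E A z) (C : Subgroup W)
    (hCinv : ∀ a ∈ A, ∀ c ∈ C, a c ∈ C) (hzC : z ∈ C) (hne : ∃ y ∈ C, y ≠ 1 ∧ y ≠ z) :
    ∃ a0 ∈ A, a0 ≠ 1 ∧ ∃ C' : Subgroup W, C' ≤ C ∧ z ∈ C' ∧ (∀ a ∈ A, ∀ c ∈ C', a c ∈ C') ∧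
      Nat.card C = 4 * Nat.card C' ∧ Q8T (fixSub a0) z ∧ fixSub a0 ≤ C ∧
      (∀ x ∈ fixSub a0, ∀ c ∈ C', x * c = c * x) ∧
      (∀ c ∈ C, ∃ r ∈ fixSub a0, ∃ c' ∈ C', c = c' * r) ∧
      (∀ x ∈ fixSub a0, x ∈ C' → x = 1 ∨ x = z) ∧
      (∀ a ∈ A, a ∉ Subgroup.zpowers a0 → ∀ y ∈ C, a y = y → y ∈ C') ∧
      (∀ y : W, y ∈ C' ↔ y ∈ C ∧ ∀ w ∈ fixSub a0, w * y = y * w) := by
  haveI : Fact p.Prime := ⟨D.S.hp⟩
  have hz1 := D.hz1
  have hz2 := D.hz2
  have hzc := D.hzc
  set N := secondCenter z hz2 hzc C with hN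
  have hNinv : ∀ a ∈ A, ∀ x ∈ N, a x ∈ N := by
    rintro a ha x ⟨hxC, hx'⟩
    refine ⟨hCinv a ha x hxC, fun c hc => ?_⟩
    have hc0C : a⁻¹ c ∈ C := hCinv a⁻¹ (A.inv_mem ha) c hc
    have hc0 : a (a⁻¹ c) = c := by
      rw [← MulAut.mul_apply, mul_inv_cancel, MulAut.one_apply]
    rcases hx' _ hc0C with h | h
    · left
      have := congrArg a h
      rwa [map_mul, map_mul, hc0] at this
    · right
      have := congrArg a h
      rwa [map_mul, map_mul, map_mul, hc0, D.hzfix a] at this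
  have hzN : z ∈ N := ⟨hzC, fun c _ => Or.inl (hzc c)⟩
  obtain ⟨x0, hx0N, hx01, hx0z⟩ := exists_secondCenter D.S.hW z hz2 hzc C hzC hne
  have hAc : ∀ a ∈ A, ∀ b ∈ A, a * b = b * a :=
    fun a ha b hb => D.S.hEc a (D.S.hAE ha) b (D.S.hAE hb)
  have hex : ∃ a0 ∈ A, a0 ≠ 1 ∧ ∃ x ∈ N, a0 x = x ∧ x ≠ 1 ∧ x ≠ z := by
    by_contra hcon
    push Not at hcon
    have hle : N ≤ Subgroup.zpowers z := by
      apply gen_le p D.S.hp2 D.S.hW A hAc D.S.hAexp D.S.hAcard N _ hNinv
      intro a ha ha1 x hx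
      rw [mem_zpowers_of_sq z x hz2]
      by_cases hx1 : x = 1
      · exact Or.inl hx1
      · exact Or.inr (hcon a ha ha1 x hx.1 hx.2 hx1)
    rcases (mem_zpowers_of_sq z x0 hz2).1 (hle hx0N) with h | h
    · exact hx01 h
    · exact hx0z h
  obtain ⟨a0, ha0, ha01, x, hxN, hax, hx1, hxz⟩ := hex
  have hxX : x ∈ fixSub a0 := hax
  obtain ⟨b, hb, hbx⟩ : ∃ b ∈ A, b x ≠ x := by
    by_contra hcon
    push Not at hcon
    rcases D.fixAll_and_three.1 x hcon with h | h
    · exact hx1 h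
    · exact hxz h
  have hnt : ∃ x ∈ fixSub a0, b x ≠ x := ⟨x, hxX, hbx⟩
  have hq := D.q8t a0 (D.S.hAE ha0) ha01 b (D.S.hAE hb) hnt
  have hfree := D.free a0 (D.S.hAE ha0) ha01 b (D.S.hAE hb) hnt
  obtain ⟨o, ho, hbo⟩ := D.S.hEodd b (D.S.hAE hb)
  have hbX : ∀ x ∈ fixSub a0, b x ∈ fixSub a0 :=
    fun x hx => D.map_fixSub a0 (D.S.hAE ha0) b (D.S.hAE hb) x hx
  have hXN : fixSub a0 ≤ N :=
    hq.le_of_invariant hz2 b hbX (D.hzfix b) o ho hbo hfree N hzN (hNinv b hb) x hxX hxN hx1 hxz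
  have hXC : fixSub a0 ≤ C := fun w hw => (hXN hw).1
  obtain ⟨hx2X, hx21, hx2z, hx2x, hx2zx⟩ :=
    Q8T.img_facts hz2 b hbX (D.hzfix b) o ho hbo hfree x hxX hx1 hxz
  have hanti : x * b x = z * (b x * x) := hq.anti x hxX (b x) hx2X hx1 hxz hx21 hx2z hx2x hx2zx
  have hanti' : b x * x = z * (x * b x) := by rw [hanti, ← mul_assoc, hz2, one_mul]
  have hmem : ∀ (u c : W), c ∈ Subgroup.centralizer ({u} : Set W) ↔ u * c = c * u := by
    intro u c
    rw [Subgroup.mem_centralizer_iff]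
    constructor
    · intro h; exact h u rfl
    · intro h x hx; rw [Set.mem_singleton_iff.1 hx]; exact h
  obtain ⟨idx1a, idx1b⟩ := idx_two z hz1 hz2 hzc C x (b x) (hXC hx2X) hanti
    (fun c hc => (hXN hxX).2 c hc)
  set C1 : Subgroup W := C ⊓ Subgroup.centralizer ({x} : Set W) with hC1
  have hxC1 : x ∈ C1 := ⟨hXC hxX, (hmem x x).2 rfl⟩
  obtain ⟨idx2a, idx2b⟩ := idx_two z hz1 hz2 hzc C1 (b x) x hxC1 hanti'
    (fun c hc => (hXN hx2X).2 c hc.1)
  set C' : Subgroup W := C ⊓ Subgroup.centralizer (fixSub a0 : Set W) with hC'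
  have hC'eq : C1 ⊓ Subgroup.centralizer ({b x} : Set W) = C' := by
    ext c
    rw [hC1, hC', Subgroup.mem_inf, Subgroup.mem_inf, Subgroup.mem_inf]
    constructor
    · rintro ⟨⟨hcC, hc1⟩, hc2⟩
      refine ⟨hcC, ?_⟩
      have e1 : x * c = c * x := (hmem x c).1 hc1
      have e2 : b x * c = c * b x := (hmem (b x) c).1 hc2
      rw [Subgroup.mem_centralizer_iff]
      intro w hw
      rcases hq.gen x hxX (b x) hx2X hx1 hxz hx21 hx2z hx2x hx2zx w hw with
        h | h | h | h | h | h | h | h <;> rw [h]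
      · rw [one_mul, mul_one]
      · exact hzc c
      · exact e1
      · rw [mul_assoc, e1, ← mul_assoc, hzc, mul_assoc]
      · exact e2
      · rw [mul_assoc, e2, ← mul_assoc, hzc, mul_assoc]
      · rw [mul_assoc, e2, ← mul_assoc, e1, mul_assoc]
      · rw [mul_assoc, mul_assoc, e2, ← mul_assoc x, e1, ← mul_assoc, ← mul_assoc, hzc, mul_assoc,
          mul_assoc]
    · rintro ⟨hcC, hc⟩
      rw [Subgroup.mem_centralizer_iff] at hc
      exact ⟨⟨hcC, (hmem x c).2 (hc x hxX)⟩, (hmem (b x) c).2 (hc (b x) hx2X)⟩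
  have hC'C : C' ≤ C := inf_le_left
  have hmemC' : ∀ y : W, y ∈ C' ↔ y ∈ C ∧ ∀ w ∈ fixSub a0, w * y = y * w := by
    intro y
    rw [hC', Subgroup.mem_inf, Subgroup.mem_centralizer_iff]
    rfl
  have hcentC' : ∀ w ∈ fixSub a0, ∀ c ∈ C', w * c = c * w := by
    intro w hw c hc
    exact ((hmemC' c).1 hc).2 w hw
  refine ⟨a0, ha0, ha01, C', hC'C, (hmemC' z).2 ⟨hzC, ?_⟩, ?_, ?_, hq, hXC, hcentC', ?_, ?_, ?_,
    hmemC'⟩
  · intro w _; exact (hzc w).symm
  · -- invariance of `C'`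
    intro a ha c hc
    refine (hmemC' _).2 ⟨hCinv a ha c (hC'C hc), ?_⟩
    intro w hw
    have hw0 : a⁻¹ w ∈ fixSub a0 :=
      D.map_fixSub a0 (D.S.hAE ha0) a⁻¹ (E.inv_mem (D.S.hAE ha)) w hw
    have haw0 : a (a⁻¹ w) = w := by
      rw [← MulAut.mul_apply, mul_inv_cancel, MulAut.one_apply]
    have := congrArg a (hcentC' _ hw0 c hc)
    rwa [map_mul, map_mul, haw0] at this
  · -- the order
    rw [idx1b, idx2b, hC'eq]; ring
  · -- decomposition
    intro c hc
    have key : ∀ d ∈ C1, ∃ r ∈ fixSub a0, ∃ c' ∈ C', d = c' * r := by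
      intro d hd
      rcases idx2a d hd with h | h
      · exact ⟨1, Subgroup.one_mem _, d, hC'eq ▸ ⟨hd, h⟩, by rw [mul_one]⟩
      · refine ⟨x⁻¹, Subgroup.inv_mem _ hxX, d * x, hC'eq ▸ ⟨C1.mul_mem hd hxC1, h⟩, by group⟩
    rcases idx1a c hc with h | h
    · exact key c ⟨hc, h⟩
    · obtain ⟨r, hr, c', hc', he⟩ := key (c * b x) ⟨C.mul_mem hc (hXC hx2X), h⟩
      refine ⟨r * (b x)⁻¹, Subgroup.mul_mem _ hr (Subgroup.inv_mem _ hx2X), c', hc', ?_⟩
      rw [← mul_assoc, ← he]; group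
  · -- `X ∩ C' = {1, z}`
    intro x' hx' hx'C
    by_contra hcon
    push Not at hcon
    obtain ⟨h2X, h21, h2z, h2x, h2zx⟩ :=
      Q8T.img_facts hz2 b hbX (D.hzfix b) o ho hbo hfree x' hx' hcon.1 hcon.2
    have h1 := hq.anti x' hx' (b x') h2X hcon.1 hcon.2 h21 h2z h2x h2zx
    have h2 := hcentC' (b x') h2X x' hx'C
    rw [← h2] at h1
    apply hz1
    have : 1 * (b x' * x') = z * (b x' * x') := by rw [one_mul]; exact h1
    exact (mul_right_cancel this).symm
  · -- fixed points of independent elements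
    intro a ha hna y hyC hay
    refine (hmemC' y).2 ⟨hyC, ?_⟩
    obtain ⟨oa, hoa, haoa⟩ := D.S.hEodd a (D.S.hAE ha)
    exact hq.comm_of_fixed hz1 hz2 hzc a
      (fun w hw => D.map_fixSub a0 (D.S.hAE ha0) a (D.S.hAE ha) w hw) (D.hzfix a) oa hoa haoa
      (fun w hw h => D.inf_fix a0 ha0 ha01 a ha hna w hw h) y hay
      (fun x' hx' => (hXN hx').2 y hyC)

end Cfsg.Agent.H2.NCA
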