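import Mathlib
import Cfsg.Agent.H2.NCA.A8

/-!
# Structure of invariant subgroups (towards S2934)
-/

set_option autoImplicit false

namespace Cfsg.Agent.H2.NCA

variable {W : Type*} [Group W]

/-- the elements of `A` with a fixed point in `C` outside `{1, z}` -/
def SQ (A : Subgroup (MulAut W)) (z : W) (C : Subgroup W) : Set (MulAut W) :=
  {a | a ∈ A ∧ a ≠ 1 ∧ ∃ x ∈ C, a x = x ∧ x ≠ 1 ∧ x ≠ z}

variable {p : ℕ} {E A : Subgroup (MulAut W)} {z : W}

theorem Setup2.structure [Finite W] (D : Setup2 W p E A z) :
    ∀ (n : ℕ) (C : Subgroup W), Nat.card C = n → (∀ a ∈ A, ∀ c ∈ C, a c ∈ C) → z ∈ C →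
      (∀ c ∈ C, c * c = 1 ∨ c * c = z) ∧ (∀ c ∈ C, ∀ d ∈ C, CommZ z c d) ∧
      (∀ c ∈ C, (∀ d ∈ C, c * d = d * c) → c = 1 ∨ c = z) ∧
      Nat.card C = 2 ^ (1 + (SQ A z C).ncard) ∧ Even (SQ A z C).ncard := by
  have hz1 := D.hz1
  have hz2 := D.hz2
  have hzc := D.hzc
  have hfinA : Finite A :=
    Nat.finite_of_card_ne_zero (by rw [D.S.hAcard]; exact pow_ne_zero _ D.S.hp.ne_zero)
  intro n
  induction n using Nat.strong_induction_on with
  | _ n ih =>
  intro C hn hCinv hzC
  by_cases hne : ∃ y ∈ C, y ≠ 1 ∧ y ≠ z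
  · -- inductive step
    obtain ⟨a0, ha0, ha01, C', hC'C, hzC', hC'inv, hcard, hq, hXC, hcent, hdec, hXC', hind,
      hmemC'⟩ := D.peel C hCinv hzC hne
    have hlt : Nat.card C' < n := by
      have : 0 < Nat.card C' := Nat.card_pos
      omega
    obtain ⟨ih1, ih2, ih3, ih4, ih5⟩ := ih (Nat.card C') hlt C' rfl hC'inv hzC'
    have hp3 : p = 3 := D.fixAll_and_three.2
    have ha03 : a0 ^ 3 = 1 := by rw [← hp3]; exact D.S.hAexp a0 ha0
    refine ⟨?_, ?_, ?_, ?_⟩
    · -- squares
      intro c hc
      obtain ⟨r, hr, c', hc', rfl⟩ := hdec c hc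
      have hrc : r * c' = c' * r := hcent r hr c' hc'
      have e : c' * r * (c' * r) = (c' * c') * (r * r) := by
        rw [mul_assoc, ← mul_assoc r, hrc, mul_assoc, mul_assoc]
      have hrr : r * r = 1 ∨ r * r = z := by
        rcases hq.sq r hr with h | h | h
        · left; rw [h, one_mul]
        · left; rw [h, hz2]
        · right; exact h
      rcases ih1 c' hc' with h1 | h1 <;> rcases hrr with h2 | h2 <;> rw [e, h1, h2]
      · left; rw [one_mul]
      · right; rw [one_mul]
      · right; rw [mul_one]
      · left; exact hz2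
    · -- commutators
      intro c hc d hd
      obtain ⟨r, hr, c', hc', rfl⟩ := hdec c hc
      obtain ⟨s, hs, d', hd', rfl⟩ := hdec d hd
      have h1 : r * d' = d' * r := hcent r hr d' hd'
      have h2 : s * c' = c' * s := hcent s hs c' hc'
      have e1 : c' * r * (d' * s) = (c' * d') * (r * s) := by
        rw [mul_assoc, ← mul_assoc r, h1, mul_assoc, mul_assoc]
      have e2 : d' * s * (c' * r) = (d' * c') * (s * r) := by
        rw [mul_assoc, ← mul_assoc s, h2, mul_assoc, mul_assoc]
      unfold CommZ
      rw [e1, e2]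
      rcases ih2 c' hc' d' hd' with h3 | h3 <;> rcases hq.comm r hr s hs with h4 | h4
      · left; rw [h3, h4]
      · right
        rw [h3, h4]
        calc d' * c' * (z * (s * r)) = d' * c' * z * (s * r) := by simp only [mul_assoc]
          _ = z * (d' * c') * (s * r) := by rw [← hzc (d' * c')]
          _ = z * (d' * c' * (s * r)) := by simp only [mul_assoc]
      · right
        rw [h3, h4]
        simp only [mul_assoc]
      · left
        rw [h3, h4]
        calc z * (d' * c') * (z * (s * r)) = (d' * c') * z * (z * (s * r)) := by rw [hzc (d' * c')]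
          _ = d' * c' * ((z * z) * (s * r)) := by simp only [mul_assoc]
          _ = d' * c' * (s * r) := by rw [hz2, one_mul]
    · -- the centre
      intro c hc hcen
      obtain ⟨r, hr, c', hc', rfl⟩ := hdec c hc
      have hrC' : r ∈ C' := by
        rw [hmemC']
        refine ⟨hXC hr, fun w hw => ?_⟩
        have h1 := hcen w (hXC hw)
        have h2 : w * c' = c' * w := hcent w hw c' hc'
        have h3 : c' * (r * w) = c' * (w * r) := by
          rw [← mul_assoc, h1, ← mul_assoc, h2, mul_assoc]
        exact (mul_left_cancel h3).symm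
      have hcC' : c' * r ∈ C' := C'.mul_mem hc' hrC'
      exact ih3 _ hcC' (fun d hd => hcen d (hC'C hd))
    · -- the order
      obtain ⟨x, hxX, hx1, hxz⟩ := hq.exists_outside hz2
      have hax : a0 x = x := hxX
      have hinvx : a0⁻¹ x = x := by
        calc a0⁻¹ x = a0⁻¹ (a0 x) := by rw [hax]
          _ = x := by rw [← MulAut.mul_apply, inv_mul_cancel, MulAut.one_apply]
      have hnot : ∀ a : MulAut W, (∀ y : W, a y = y → a0 y = y) → a ∉ SQ A z C' := by
        rintro a ha ⟨-, -, y, hyC', hay, hy1, hyz⟩
        rcases hXC' y (ha y hay) hyC' with h | h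
        · exact hy1 h
        · exact hyz h
      have hn0 : a0 ∉ SQ A z C' := hnot a0 (fun y h => h)
      have hn1 : a0⁻¹ ∉ SQ A z C' := by
        apply hnot
        intro y hy
        calc a0 y = a0 (a0⁻¹ y) := by rw [hy]
          _ = y := by rw [← MulAut.mul_apply, mul_inv_cancel, MulAut.one_apply]
      have hne01 : a0 ≠ a0⁻¹ := by
        intro h
        apply ha01
        have h2 : a0 ^ 2 = 1 := by
          rw [pow_two]; nth_rewrite 2 [h]; rw [mul_inv_cancel]
        have : a0 ^ 3 = a0 := by rw [pow_succ, h2, one_mul]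
        rw [← this, ha03]
      have hSQ : SQ A z C = insert a0 (insert a0⁻¹ (SQ A z C')) := by
        ext a
        constructor
        · rintro ⟨haA, ha1, y, hyC, hay, hy1, hyz⟩
          by_cases hz : a ∈ Subgroup.zpowers a0
          · rcases (mem_zpowers_of_pow_three a0 a ha03).1 hz with h | h | h
            · exact absurd h ha1
            · rw [h]; exact Set.mem_insert _ _
            · rw [h]; exact Set.mem_insert_of_mem _ (Set.mem_insert _ _)
          · exact Set.mem_insert_of_mem _ (Set.mem_insert_of_mem _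
              ⟨haA, ha1, y, hind a haA hz y hyC hay, hay, hy1, hyz⟩)
        · intro h
          rcases h with h | h | h
          · rw [h]; exact ⟨ha0, ha01, x, hXC hxX, hax, hx1, hxz⟩
          · rw [h]; exact ⟨A.inv_mem ha0, inv_ne_one.2 ha01, x, hXC hxX, hinvx, hx1, hxz⟩
          · obtain ⟨haA, ha1, y, hyC', hay, hy1, hyz⟩ := h
            exact ⟨haA, ha1, y, hC'C hyC', hay, hy1, hyz⟩
      have hfin : (SQ A z C').Finite :=
        Set.Finite.subset (Set.toFinite (A : Set (MulAut W))) (fun a ha => ha.1)
      have hs : (SQ A z C).ncard = (SQ A z C').ncard + 2 := by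
        have hfin2 : (insert a0⁻¹ (SQ A z C')).Finite := hfin.insert _
        have hn0' : a0 ∉ insert a0⁻¹ (SQ A z C') := by
          intro h
          rcases h with h | h
          · exact hne01 h
          · exact hn0 h
        rw [hSQ, Set.ncard_insert_of_notMem hn0' hfin2, Set.ncard_insert_of_notMem hn1 hfin]
      refine ⟨?_, ?_⟩
      · rw [hcard, ih4, hs]; ring
      · rw [hs]; exact ih5.add even_two
  · -- base case
    push Not at hne
    have hall : ∀ y ∈ C, y = 1 ∨ y = z := by
      intro y hy
      by_cases h : y = 1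
      · exact Or.inl h
      · exact Or.inr (hne y hy h)
    have hSQ : SQ A z C = ∅ := by
      ext a
      simp only [Set.mem_empty_iff_false, iff_false]
      rintro ⟨-, -, y, hyC, -, hy1, hyz⟩
      rcases hall y hyC with h | h
      · exact hy1 h
      · exact hyz h
    have hCz : C = Subgroup.zpowers z := by
      ext w
      rw [mem_zpowers_of_sq z w hz2]
      constructor
      · exact hall w
      · rintro (h | h)
        · rw [h]; exact C.one_mem
        · rw [h]; exact hzC
    refine ⟨?_, ?_, ?_, ?_, ?_⟩
    · intro c hc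
      left
      rcases hall c hc with h | h
      · rw [h, one_mul]
      · rw [h, hz2]
    · intro c hc d _
      left
      rcases hall c hc with h | h
      · rw [h, one_mul, mul_one]
      · rw [h]; exact hzc d
    · intro c hc _
      exact hall c hc
    · rw [hSQ, Set.ncard_empty, hCz, Nat.card_zpowers, orderOf_eq_two_of_sq hz1 hz2]; rfl
    · rw [hSQ, Set.ncard_empty]; exact ⟨0, rfl⟩

end Cfsg.Agent.H2.NCA
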