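import Mathlib
import Cfsg.Agent.H2.NCA.A9

/-!
# The setup from the hypotheses of S2934
-/

set_option autoImplicit false

namespace Cfsg.Agent.H2.NCA

variable {W : Type*} [Group W]

/-- a noncyclic abelian `p`-group of automorphisms contains a `Z_p × Z_p` -/
theorem exists_setup [Finite W] (hW : IsPGroup 2 W) {p : ℕ} [Fact p.Prime]
    (hp : p ≠ 2) (E : Subgroup (MulAut W)) (hE : IsPGroup p ↥E) (hab : IsMulCommutative ↥E)
    (hnc : ¬ IsCyclic ↥E)
    (hfix : ∀ e ∈ E, e ≠ 1 → ∀ x y : W, orderOf x = 2 → orderOf y = 2 → e x = x → e y = y →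
      x = y) :
    ∃ A : Subgroup (MulAut W), Setup W p E A := by
  classical
  have hpp := (Fact.out : p.Prime)
  have hcomm : ∀ a b : ↥E, a * b = b * a := fun a b => hab.is_comm.comm a b
  let Ω : Subgroup ↥E :=
    { carrier := {x | x ^ p = 1}
      one_mem' := one_pow p
      mul_mem' := by
        intro x y hx hy
        show (x * y) ^ p = 1
        rw [(show Commute x y from hcomm x y).mul_pow, show x ^ p = 1 from hx,
          show y ^ p = 1 from hy, one_mul]
      inv_mem' := by
        intro x hx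
        show x⁻¹ ^ p = 1
        rw [inv_pow, show x ^ p = 1 from hx, inv_one] }
  have hΩmem : ∀ x : ↥E, x ∈ Ω ↔ x ^ p = 1 := fun x => Iff.rfl
  have hΩ : p ^ 2 ≤ Nat.card Ω := by
    by_contra hlt
    push Not at hlt
    obtain ⟨m, hm⟩ := (hE.to_subgroup Ω).exists_card_eq
    have hm1 : m ≤ 1 := by
      by_contra h
      push Not at h
      have : p ^ 2 ≤ p ^ m := Nat.pow_le_pow_right hpp.pos h
      omega
    have hcardle : Nat.card Ω ≤ p := by
      rw [hm]
      calc p ^ m ≤ p ^ 1 := Nat.pow_le_pow_right hpp.pos hm1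
        _ = p := pow_one p
    have key : ∀ H : Subgroup ↥E, Nat.card H = p → H = Ω := by
      intro H hH
      apply Subgroup.eq_of_le_of_card_ge
      · intro x hx
        rw [hΩmem]
        have h1 : (⟨x, hx⟩ : H) ^ Nat.card H = 1 := pow_card_eq_one'
        rw [hH] at h1
        have h2 := congrArg Subtype.val h1
        simpa using h2
      · rw [hH]; exact hcardle
    have huniq : ∀ H K : Subgroup ↥E, Nat.card H = p → Nat.card K = p → H = K := by
      intro H K hH hK
      rw [key H hH, key K hK]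
    rcases Cfsg.Agent.H2.UOP.main p hE huniq with h | ⟨h, -⟩
    · exact hnc h
    · exact hp h
  obtain ⟨A0, hA0Ω, hA0c⟩ := Sylow.exists_subgroup_le_card_pow_prime_of_le_card hpp hE hΩ
  refine ⟨A0.map E.subtype, ?_⟩
  refine
    { hW := hW
      hp := hpp
      hp2 := hp
      hAE := Subgroup.map_subtype_le A0
      hEc := fun a ha b hb => congrArg Subtype.val (hcomm ⟨a, ha⟩ ⟨b, hb⟩)
      hEodd := ?_
      hAexp := ?_
      hAcard := ?_
      hfix := hfix }
  · intro e he
    obtain ⟨k, hk⟩ := hE ⟨e, he⟩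
    refine ⟨p ^ k, (hpp.odd_of_ne_two hp).pow, ?_⟩
    have := congrArg Subtype.val hk
    simpa using this
  · rintro _ ⟨x, hx, rfl⟩
    have h1 : x ^ p = 1 := hA0Ω hx
    have := congrArg Subtype.val h1
    simpa using this
  · rw [Subgroup.card_map_of_injective E.subtype_injective, hA0c]

end Cfsg.Agent.H2.NCA
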