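import Mathlib
import Cfsg.Agent.H2.NCA.A10

/-!
# The main structural result (towards S2934)
-/

set_option autoImplicit false

namespace Cfsg.Agent.H2.NCA

variable {W : Type*} [Group W]

variable {p : ℕ} {E A : Subgroup (MulAut W)} {z : W}

theorem Setup2.main [Finite W] (D : Setup2 W p E A z) :
    E = A ∧ p = 3 ∧ (∀ c : W, c * c = 1 ∨ c * c = z) ∧ (∀ c d : W, CommZ z c d) ∧
      (∀ c : W, (∀ d, c * d = d * c) → c = 1 ∨ c = z) ∧
      (Nat.card W = 2 ^ 5 ∨ Nat.card W = 2 ^ 7 ∨ Nat.card W = 2 ^ 9) ∧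
      (∃ c d : W, c * d ≠ d * c) := by
  have hz1 := D.hz1
  have hz2 := D.hz2
  have hzc := D.hzc
  have hp3 : p = 3 := D.fixAll_and_three.2
  have hfinA : Finite A :=
    Nat.finite_of_card_ne_zero (by rw [D.S.hAcard]; exact pow_ne_zero _ D.S.hp.ne_zero)
  have hAcard : Nat.card A = 9 := by rw [D.S.hAcard, hp3]; norm_num
  obtain ⟨h1, h2, h3, h4, h5⟩ := D.structure (Nat.card (⊤ : Subgroup W)) ⊤ rfl
    (fun _ _ _ _ => Subgroup.mem_top _) (Subgroup.mem_top _)
  obtain ⟨b0, hb0, hb01⟩ := D.S.exists_ne_one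
  have hne : ∃ y ∈ (⊤ : Subgroup W), y ≠ 1 ∧ y ≠ z := by
    by_contra hcon
    push Not at hcon
    apply hb01
    ext w
    by_cases hw : w = 1
    · rw [hw, map_one, MulAut.one_apply]
    · rw [hcon w (Subgroup.mem_top _) hw, D.hzfix, MulAut.one_apply]
  obtain ⟨a0, ha0, ha01, C', hC'C, hzC', hC'inv, hcard, hq0, hXC, hcent, hdec, hXC', hind,
    hmemC'⟩ := D.peel ⊤ (fun _ _ _ _ => Subgroup.mem_top _) (Subgroup.mem_top _) hne
  have hne' : ∃ y ∈ C', y ≠ 1 ∧ y ≠ z := by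
    by_contra hcon
    push Not at hcon
    have hC'z : C' = Subgroup.zpowers z := by
      ext w
      rw [mem_zpowers_of_sq z w hz2]
      constructor
      · intro hw
        by_cases h : w = 1
        · exact Or.inl h
        · exact Or.inr (hcon w hw h)
      · rintro (h | h)
        · rw [h]; exact C'.one_mem
        · rw [h]; exact hzC'
    have hc2 : Nat.card C' = 2 := by
      rw [hC'z, Nat.card_zpowers, orderOf_eq_two_of_sq hz1 hz2]
    have hc8 : Nat.card (⊤ : Subgroup W) = 8 := by rw [hcard, hc2]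
    have htop : fixSub a0 = ⊤ :=
      Subgroup.eq_of_le_of_card_ge le_top (by rw [hc8, hq0.card])
    apply ha01
    ext w
    have : w ∈ fixSub a0 := htop ▸ Subgroup.mem_top w
    exact this
  obtain ⟨a1, ha1, ha11, C'', hC''C, hzC'', hC''inv, hcard', hq1, hXC1, hcent1, hdec1, hXC1',
    hind1, hmemC''⟩ := D.peel C' hC'inv hzC' hne'
  -- the order
  have hC''2 : 2 ≤ Nat.card C'' := by
    have hle : Subgroup.zpowers z ≤ C'' := by rw [Subgroup.zpowers_le]; exact hzC''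
    have := Subgroup.card_le_of_le hle
    rwa [Nat.card_zpowers, orderOf_eq_two_of_sq hz1 hz2] at this
  have h32 : 32 ≤ Nat.card (⊤ : Subgroup W) := by rw [hcard, hcard']; omega
  have hs8 : (SQ A z ⊤).ncard ≤ 8 := by
    have hsub : SQ A z ⊤ ⊆ (A : Set (MulAut W)) \ {1} := fun a ha => ⟨ha.1, ha.2.1⟩
    have hfin : ((A : Set (MulAut W)) \ {1}).Finite :=
      Set.Finite.subset (Set.toFinite (A : Set (MulAut W))) Set.sdiff_subset
    have hle := Set.ncard_le_ncard hsub hfin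
    have hA9 : (A : Set (MulAut W)).ncard = 9 := by
      rw [← hAcard]; exact (Nat.card_coe_set_eq (A : Set (MulAut W))).symm
    have h8 : ((A : Set (MulAut W)) \ {1}).ncard = 8 := by
      rw [Set.ncard_sdiff_singleton_of_mem (show (1 : MulAut W) ∈ (A : Set (MulAut W)) from A.one_mem),
        hA9]
    omega
  have hcardW : Nat.card W = 2 ^ 5 ∨ Nat.card W = 2 ^ 7 ∨ Nat.card W = 2 ^ 9 := by
    rw [← Subgroup.card_top (G := W)]
    obtain ⟨k, hk⟩ := h5
    rw [h4] at h32 ⊢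
    have hk4 : k ≤ 4 := by omega
    rw [hk] at h32 ⊢
    interval_cases k
    · norm_num at h32
    · norm_num at h32
    · left; rfl
    · right; left; rfl
    · right; right; rfl
  -- `E = A`
  have ha03 : a0 ^ 3 = 1 := by rw [← hp3]; exact D.S.hAexp a0 ha0
  have ha13 : a1 ^ 3 = 1 := by rw [← hp3]; exact D.S.hAexp a1 ha1
  have hna : a1 ∉ Subgroup.zpowers a0 := by
    intro h
    obtain ⟨x, hxX, hx1, hxz⟩ := hq1.exists_outside hz2
    have hx0 : x ∈ fixSub a0 := by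
      rcases (mem_zpowers_of_pow_three a0 a1 ha03).1 h with h | h | h
      · exact absurd h ha11
      · rw [← h]; exact hxX
      · have h' : a0⁻¹ x = x := by rw [← h]; exact hxX
        show a0 x = x
        calc a0 x = a0 (a0⁻¹ x) := by rw [h']
          _ = x := by rw [← MulAut.mul_apply, mul_inv_cancel, MulAut.one_apply]
    rcases hXC' x hx0 (hXC1 hxX) with h | h
    · exact hx1 h
    · exact hxz h
  have hna' : a0 ∉ Subgroup.zpowers a1 := by
    intro h
    apply hna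
    rcases (mem_zpowers_of_pow_three a1 a0 ha13).1 h with h | h | h
    · exact absurd h ha01
    · rw [← h]; exact Subgroup.mem_zpowers _
    · have h' : a1 = a0⁻¹ := by rw [h, inv_inv]
      rw [h']; exact Subgroup.inv_mem _ (Subgroup.mem_zpowers _)
  have hfree0 : ∀ x ∈ fixSub a0, a1 x = x → x = 1 ∨ x = z :=
    fun x hx h => D.inf_fix a0 ha0 ha01 a1 ha1 hna x hx h
  have hfree1 : ∀ x ∈ fixSub a1, a0 x = x → x = 1 ∨ x = z :=
    fun x hx h => D.inf_fix a1 ha1 ha11 a0 ha0 hna' x hx h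
  obtain ⟨x0, hx0X, hx01, hx0z⟩ := hq0.exists_outside hz2
  obtain ⟨x1, hx1X, hx11, hx1z⟩ := hq1.exists_outside hz2
  have hx0sq : x0 * x0 = z := by
    rcases hq0.sq x0 hx0X with h | h | h
    · exact absurd h hx01
    · exact absurd h hx0z
    · exact h
  have hx1sq : x1 * x1 = z := by
    rcases hq1.sq x1 hx1X with h | h | h
    · exact absurd h hx11
    · exact absurd h hx1z
    · exact h
  have hx01c : x0 * x1 = x1 * x0 := hcent x0 hx0X x1 (hXC1 hx1X)
  have ht2 : (x0 * x1) * (x0 * x1) = 1 := by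
    calc (x0 * x1) * (x0 * x1) = x0 * (x1 * x0) * x1 := by simp only [mul_assoc]
      _ = x0 * (x0 * x1) * x1 := by rw [hx01c]
      _ = (x0 * x0) * (x1 * x1) := by simp only [mul_assoc]
      _ = 1 := by rw [hx0sq, hx1sq, hz2]
  have ht1 : x0 * x1 ≠ 1 := by
    intro h
    have hx1' : x1 = x0⁻¹ := (inv_eq_of_mul_eq_one_right h).symm
    have : x1 ∈ fixSub a0 := by rw [hx1']; exact (fixSub a0).inv_mem hx0X
    rcases hXC' x1 this (hXC1 hx1X) with h | h
    · exact hx11 h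
    · exact hx1z h
  have htz : x0 * x1 ≠ z := by
    intro h
    have hx1' : x1 = x0⁻¹ * z := by rw [← h, inv_mul_cancel_left]
    have : x1 ∈ fixSub a0 := by
      rw [hx1']; exact (fixSub a0).mul_mem ((fixSub a0).inv_mem hx0X) (D.z_mem_fixSub a0)
    rcases hXC' x1 this (hXC1 hx1X) with h | h
    · exact hx11 h
    · exact hx1z h
  have hEA : E ≤ A := by
    intro e he
    obtain ⟨o, ho, heo⟩ := D.S.hEodd e he
    have hE0 := D.S.hAE ha0
    have hE1 := D.S.hAE ha1
    obtain ⟨m0, hm0⟩ := hq0.exists_pow_eq (D.z_mem_fixSub a0) hz1 hz2 a1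
      (fun x hx => D.map_fixSub a0 hE0 a1 hE1 x hx) (D.hzfix a1) ha13 hfree0 e
      (fun x hx => D.map_fixSub a0 hE0 e he x hx) (D.hzfix e) o ho heo (D.S.hEc e he a1 hE1)
    obtain ⟨m1, hm1⟩ := hq1.exists_pow_eq (D.z_mem_fixSub a1) hz1 hz2 a0
      (fun x hx => D.map_fixSub a1 hE1 a0 hE0 x hx) (D.hzfix a0) ha03 hfree1 e
      (fun x hx => D.map_fixSub a1 hE1 e he x hx) (D.hzfix e) o ho heo (D.S.hEc e he a0 hE0)
    have hgA : a0 ^ m1 * a1 ^ m0 ∈ A := A.mul_mem (A.pow_mem ha0 _) (A.pow_mem ha1 _)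
    have hg0 : ∀ w ∈ fixSub a0, (a0 ^ m1 * a1 ^ m0) w = e w := by
      intro w hw
      rw [MulAut.mul_apply, hm0 w hw]
      apply Q8T.pow_fix
      exact Q8T.pow_mem_of_mem a1 (fun x hx => D.map_fixSub a0 hE0 a1 hE1 x hx) m0 w hw
    have hg1 : ∀ w ∈ fixSub a1, (a0 ^ m1 * a1 ^ m0) w = e w := by
      intro w hw
      rw [MulAut.mul_apply, hm1 w hw, Q8T.pow_fix a1 w hw m0]
    have hfixt : ((a0 ^ m1 * a1 ^ m0)⁻¹ * e) (x0 * x1) = x0 * x1 := by
      rw [MulAut.mul_apply, map_mul, ← hg0 x0 hx0X, ← hg1 x1 hx1X, ← map_mul,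
        ← MulAut.mul_apply, inv_mul_cancel, MulAut.one_apply]
    have hge : (a0 ^ m1 * a1 ^ m0)⁻¹ * e = 1 := by
      by_contra hne
      have hgeE : (a0 ^ m1 * a1 ^ m0)⁻¹ * e ∈ E := E.mul_mem (E.inv_mem (D.S.hAE hgA)) he
      rcases D.huniq _ hgeE hne (x0 * x1) ht2 hfixt with h | h
      · exact ht1 h
      · exact htz h
    have : e = a0 ^ m1 * a1 ^ m0 := by
      rw [← mul_one (a0 ^ m1 * a1 ^ m0), ← hge, mul_inv_cancel_left]
    rw [this]; exact hgA
  -- nonabelian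
  have hnab : ∃ c d : W, c * d ≠ d * c := by
    by_contra hcon
    push Not at hcon
    rcases h3 x0 (Subgroup.mem_top _) (fun d _ => hcon x0 d) with h | h
    · exact hx01 h
    · exact hx0z h
  exact ⟨le_antisymm hEA D.S.hAE, hp3, fun c => h1 c (Subgroup.mem_top _),
    fun c d => h2 c (Subgroup.mem_top _) d (Subgroup.mem_top _),
    fun c hc => h3 c (Subgroup.mem_top _) (fun d _ => hc d), hcardW, hnab⟩

end Cfsg.Agent.H2.NCA
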