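import Mathlib
import Cfsg.Prelude.Def_Transfer
import Cfsg.Agent.H2.NCA.A11
import Cfsg.Agent.H1.Frattini
import Cfsg.Agent.Lib.Helper7.Core

/-!
# Extraspecial groups from element-level data (towards S2934)
-/

set_option autoImplicit false

namespace Cfsg.Agent.H2.NCA

open scoped commutatorElement

variable {W : Type*} [Group W]

theorem isExtraspecial_of [Finite W] (hW : IsPGroup 2 W) (z : W) (hz1 : z ≠ 1) (hz2 : z * z = 1)
    (hzc : ∀ w, z * w = w * z) (hsq : ∀ c : W, c * c = 1 ∨ c * c = z)
    (hcomm : ∀ c d : W, CommZ z c d) (hcen : ∀ c : W, (∀ d, c * d = d * c) → c = 1 ∨ c = z)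
    (hnab : ∃ c d : W, c * d ≠ d * c) :
    Cfsg.IsExtraspecial 2 W ∧ ∀ x : W, x ∈ Subgroup.center W ↔ x = 1 ∨ x = z := by
  have hcenter : ∀ x, x ∈ Subgroup.center W ↔ x = 1 ∨ x = z := by
    intro x
    constructor
    · intro hx
      exact hcen x (fun d => (Subgroup.mem_center_iff.1 hx d).symm)
    · rintro (h | h)
      · rw [h]; exact Subgroup.one_mem _
      · rw [h, Subgroup.mem_center_iff]; intro g; exact (hzc g).symm
  have hcz : Subgroup.center W = Subgroup.zpowers z := by
    ext x; rw [hcenter, mem_zpowers_of_sq z x hz2]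
  have hcard : Nat.card (Subgroup.center W) = 2 := by
    rw [hcz, Nat.card_zpowers, orderOf_eq_two_of_sq hz1 hz2]
  have hcomm_le : commutator W ≤ Subgroup.center W := by
    rw [commutator_def, Subgroup.commutator_le]
    intro c _ d _
    rw [hcenter, commutatorElement_def]
    rcases hcomm c d with h | h
    · left; rw [h]; group
    · right; rw [h]; group
  have hle_comm : Subgroup.center W ≤ commutator W := by
    obtain ⟨c, d, hcd⟩ := hnab
    have h : c * d = z * (d * c) := (hcomm c d).resolve_left hcd
    have hz : z = ⁅c, d⁆ := by rw [commutatorElement_def, h]; group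
    intro x hx
    rcases (hcenter x).1 hx with h | h
    · rw [h]; exact Subgroup.one_mem _
    · rw [h, hz, commutator_def]
      exact Subgroup.commutator_mem_commutator (Subgroup.mem_top _) (Subgroup.mem_top _)
  haveI : Fact (Nat.Prime 2) := ⟨Nat.prime_two⟩
  have hfr1 : Subgroup.center W ≤ frattini W :=
    hle_comm.trans (Cfsg.Agent.H1.commutator_le_frattini hW)
  have hfr2 : frattini W ≤ Subgroup.center W := by
    apply Cfsg.Agent.Lib.Helper7.frattini_le_of_elemAb_quotient 2
    · intro x y
      rw [← commutatorElement_def]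
      apply hcomm_le
      rw [commutator_def]
      exact Subgroup.commutator_mem_commutator (Subgroup.mem_top _) (Subgroup.mem_top _)
    · intro x
      rw [pow_two, hcenter]; exact hsq x
  exact ⟨⟨⟨hW, le_antisymm hfr2 hfr1, le_antisymm hcomm_le hle_comm⟩, hcard⟩, hcenter⟩

end Cfsg.Agent.H2.NCA
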